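import Cfsg.Agent.H11.Ly3A.Structure

/-!
The centraliser of an element `x` of a subgroup `N` from the decomposition of the group into five
double cosets of `N`: the fixed cosets of `x` in each double coset form one orbit of `C_N(x)`, of
sizes 1, 252, 750, 2625, 3500.
-/

set_option autoImplicit false

namespace H11.Ly3A

open MulAction Pointwise

variable {G : Type*} [Group G]

/-- the centraliser of `x` in `N`, inside the centraliser -/
def cN (N : Subgroup G) (x : G) : Subgroup (Subgroup.centralizer ({x} : Set G)) :=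
  N.subgroupOf _

theorem coe_mem_centralizer {x c : G} :
    c ∈ Subgroup.centralizer ({x} : Set G) ↔ c * x = x * c :=
  Subgroup.mem_centralizer_singleton_iff

/-- from centralisers to fixed cosets -/
theorem fixed_of_centralizer (N : Subgroup G) {x : G} (hx : x ∈ N)
    (c : Subgroup.centralizer ({x} : Set G)) : (c : G)⁻¹ * x * (c : G) ∈ N := by
  have h := coe_mem_centralizer.1 c.2
  rw [mul_assoc, ← h, inv_mul_cancel_left]
  exact hx

/-- the orbit of the base coset under the centraliser -/
abbrev Fixed (N : Subgroup G) (x : G) : Type _ :=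
  (orbit (Subgroup.centralizer ({x} : Set G)) ((1 : G) : G ⧸ N) : Set (G ⧸ N))

theorem smul_coe (N : Subgroup G) (c q : G) : c • ((q : G) : G ⧸ N) = ((c * q : G) : G ⧸ N) := rfl

theorem stabilizer_base (N : Subgroup G) (x : G) :
    stabilizer (Subgroup.centralizer ({x} : Set G)) ((1 : G) : G ⧸ N) = cN N x := by
  ext c
  rw [mem_stabilizer_iff, cN, Subgroup.mem_subgroupOf]
  show (((c : G) * 1 : G) : G ⧸ N) = _ ↔ _
  rw [mul_one, QuotientGroup.eq, mul_one, inv_mem_iff]

/-- the five double cosets and the fixed cosets of `x` in them -/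
structure Data (G : Type*) [Group G] (N : Subgroup G) (x : G) : Type _ where
  g : Fin 5 → G
  g0 : g 0 = 1
  cover : ∀ q : G, ∃ i, ∃ n ∈ N, ∃ m ∈ N, q = n * g i * m
  disj : ∀ i j, ∀ n ∈ N, ∀ m ∈ N, g i = n * g j * m → i = j
  h : Fin 5 → Subgroup.centralizer ({x} : Set G)
  hg : ∀ i, ∃ n ∈ N, ∃ m ∈ N, (h i : G) = n * g i * m
  trans : ∀ i, ∀ n ∈ N, (n * g i)⁻¹ * x * (n * g i) ∈ N →
    ∃ c ∈ cN N x, c • ((h i : G) : G ⧸ N) = ((n * g i : G) : G ⧸ N)
  size : ∀ i, (stabilizer (cN N x) ((h i : G) : G ⧸ N)).index = sz i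

variable {N : Subgroup G} {x : G}

namespace Data

variable (D : Data G N x)

/-- the double coset of a coset -/
noncomputable def cls (b : G ⧸ N) : Fin 5 :=
  (D.cover b.out).choose

theorem cls_eq {q : G} {i : Fin 5} {n m : G} (hn : n ∈ N) (hm : m ∈ N) (hq : q = n * D.g i * m) :
    D.cls (q : G ⧸ N) = i := by
  have hspec : ∃ n' ∈ N, ∃ m' ∈ N,
      (q : G ⧸ N).out = n' * D.g (D.cls (q : G ⧸ N)) * m' := by
    unfold Data.cls
    exact (D.cover (q : G ⧸ N).out).choose_spec
  obtain ⟨n', hn', m', hm', he⟩ := hspec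
  obtain ⟨r, hr⟩ := QuotientGroup.mk_out_eq_mul N q
  rw [hr, hq] at he
  refine (D.disj i _ (n⁻¹ * n') (N.mul_mem (N.inv_mem hn) hn')
    (m' * (m * (r : G))⁻¹) (N.mul_mem hm' (N.inv_mem (N.mul_mem hm r.2))) ?_).symm
  calc D.g i = n⁻¹ * (n * D.g i * m * (r : G)) * (m * (r : G))⁻¹ := by group
    _ = n⁻¹ * (n' * D.g (D.cls (q : G ⧸ N)) * m') * (m * (r : G))⁻¹ := by rw [he, hq]
    _ = _ := by group

theorem cls_h (i : Fin 5) : D.cls ((D.h i : G) : G ⧸ N) = i := by
  obtain ⟨n, hn, m, hm, he⟩ := D.hg i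
  exact D.cls_eq hn hm he

theorem cls_smul (c : cN N x) (b : G ⧸ N) : D.cls (c • b) = D.cls b := by
  obtain ⟨q, rfl⟩ := QuotientGroup.mk_surjective b
  obtain ⟨i, n, hn, m, hm, he⟩ := D.cover q
  rw [D.cls_eq hn hm he]
  exact D.cls_eq (q := ((c : Subgroup.centralizer ({x} : Set G)) : G) * q)
    (n := ((c : Subgroup.centralizer ({x} : Set G)) : G) * n) (N.mul_mem c.2 hn) hm
    (by rw [he]; simp [mul_assoc])

theorem exists_smul_h (hx : x ∈ N) (c : Subgroup.centralizer ({x} : Set G)) :
    ∃ d : cN N x, d • ((D.h (D.cls ((c : G) : G ⧸ N)) : G) : G ⧸ N) = ((c : G) : G ⧸ N) := by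
  obtain ⟨i, n, hn, m, hm, he⟩ := D.cover (c : G)
  rw [D.cls_eq hn hm he]
  have heq : ((c : G) : G ⧸ N) = ((n * D.g i : G) : G ⧸ N) := by
    rw [QuotientGroup.eq, he]
    simpa [mul_assoc] using N.inv_mem hm
  have hfix : (n * D.g i)⁻¹ * x * (n * D.g i) ∈ N := by
    have h1 := N.mul_mem (N.mul_mem hm (fixed_of_centralizer N hx c)) (N.inv_mem hm)
    rw [he] at h1
    simpa [mul_assoc] using h1
  obtain ⟨d, hd, hd'⟩ := D.trans i n hn hfix
  exact ⟨⟨d, hd⟩, by rw [heq]; exact hd'⟩

end Data

theorem mem_orbit_coe (N : Subgroup G) (x : G) (c : Subgroup.centralizer ({x} : Set G)) :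
    ((c : G) : G ⧸ N) ∈ orbit (Subgroup.centralizer ({x} : Set G)) ((1 : G) : G ⧸ N) :=
  ⟨c, congrArg _ (mul_one (c : G))⟩

/-- the fixed coset in the double coset `i` -/
def Data.pt (D : Data G N x) (i : Fin 5) : Fixed N x := ⟨_, mem_orbit_coe N x (D.h i)⟩

namespace Data

variable [Finite G] (D : Data G N x) (hx : x ∈ N)

include hx in
theorem fibre_eq (i : Fin 5) :
    (fun b : Fixed N x => D.cls b.1) ⁻¹' {i} = Set.range fun c : cN N x =>
      (⟨c • (D.pt i).1, by
        obtain ⟨d, hd⟩ := (D.pt i).2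
        exact ⟨(c : Subgroup.centralizer ({x} : Set G)) * d,
          (mul_smul (c : Subgroup.centralizer ({x} : Set G)) d ((1 : G) : G ⧸ N)).trans
            (congrArg (fun b => (c : Subgroup.centralizer ({x} : Set G)) • b) hd)⟩⟩ : Fixed N x) := by
  ext ⟨b, hb⟩
  constructor
  · intro hbi
    obtain ⟨c, rfl⟩ := hb
    have hc : c • ((1 : G) : G ⧸ N) = ((c : G) : G ⧸ N) := congrArg _ (mul_one (c : G))
    obtain ⟨d, hd⟩ := D.exists_smul_h hx c
    refine ⟨d, Subtype.ext ?_⟩
    change D.cls (c • ((1 : G) : G ⧸ N)) = i at hbi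
    rw [hc] at hbi
    rw [hbi] at hd
    exact hd.trans hc.symm
  · rintro ⟨d, hd⟩
    show D.cls b = i
    have hd' : d • (D.pt i).1 = b := congrArg Subtype.val hd
    rw [← hd', D.cls_smul]
    exact D.cls_h i

include hx in
theorem fibre_ncard (i : Fin 5) :
    ((fun b : Fixed N x => D.cls b.1) ⁻¹' {i}).ncard = sz i := by
  rw [D.fibre_eq hx i, ← D.size i, MulAction.index_stabilizer]
  rw [← Set.ncard_image_of_injective (f := (Subtype.val : Fixed N x → G ⧸ N)) _
    Subtype.val_injective, ← Set.range_comp]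
  rfl

include D hx in
theorem fixed_card : Nat.card (Fixed N x) = 7128 := by
  have h := ncard_preimage_classes (fun b : Fixed N x => D.cls b.1) (D.fibre_ncard hx) Finset.univ
  rw [Finset.coe_univ, Set.preimage_univ, Set.ncard_univ] at h
  rw [h]
  decide

include D hx in
theorem centralizer_card (hM : Nat.card (cN N x) = 378000) :
    Nat.card (Subgroup.centralizer ({x} : Set G)) = 2694384000 := by
  have h1 := (cN N x).card_mul_index
  rw [← stabilizer_base, MulAction.index_stabilizer, ← Nat.card_coe_set_eq, stabilizer_base,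
    hM, show Nat.card (orbit (Subgroup.centralizer ({x} : Set G)) ((1 : G) : G ⧸ N)) = 7128 from
      D.fixed_card hx] at h1
  omega

omit [Finite G] in
theorem h_zero : ((D.h 0 : G) : G ⧸ N) = ((1 : G) : G ⧸ N) := by
  obtain ⟨n, hn, m, hm, he⟩ := D.hg 0
  rw [QuotientGroup.eq, he, D.g0, mul_one, mul_one, inv_mem_iff]
  exact N.mul_mem hn hm

end Data

/-- `x` in its centraliser -/
def selfC (x : G) : Subgroup.centralizer ({x} : Set G) := ⟨x, coe_mem_centralizer.2 rfl⟩

theorem selfC_central (x : G) (c : Subgroup.centralizer ({x} : Set G)) :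
    selfC x * c = c * selfC x :=
  Subtype.ext (coe_mem_centralizer.1 c.2).symm

theorem selfC_le_center (x : G) : Subgroup.zpowers (selfC x) ≤ Subgroup.center _ :=
  Subgroup.zpowers_le.2 (Subgroup.mem_center_iff.2 fun c => (selfC_central x c).symm)

instance zpowers_selfC_normal (x : G) : (Subgroup.zpowers (selfC x)).Normal :=
  ⟨fun n hn g => by
    rw [Subgroup.mem_center_iff.1 (selfC_le_center x hn) g, mul_inv_cancel_right]
    exact hn⟩

/-- the centraliser of `x` modulo `x` -/
abbrev QC (x : G) : Type _ :=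
  Subgroup.centralizer ({x} : Set G) ⧸ Subgroup.zpowers (selfC x)

/-- the permutations of the fixed cosets -/
def fixedHom (N : Subgroup G) (x : G) (hx : x ∈ N) : QC x →* Equiv.Perm (Fixed N x) :=
  QuotientGroup.lift _ (MulAction.toPermHom _ _) (by
    rw [Subgroup.zpowers_le, MonoidHom.mem_ker]
    refine Equiv.ext ?_
    rintro ⟨b, c, rfl⟩
    refine Subtype.ext ?_
    show selfC x • c • ((1 : G) : G ⧸ N) = c • ((1 : G) : G ⧸ N)
    rw [← mul_smul, selfC_central, mul_smul]
    congr 1
    show ((x * 1 : G) : G ⧸ N) = _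
    rw [mul_one, QuotientGroup.eq, mul_one, inv_mem_iff]
    exact hx)

theorem main [Finite G] {α : Type*} (D : Data G N x) (hx : x ∈ N) (hord : orderOf x = 3)
    (hM : Nat.card (cN N x) = 378000) (φ : cN N x →* Equiv.Perm α)
    (hker : φ.ker = (Subgroup.zpowers (selfC x)).subgroupOf (cN N x))
    (hperf : commutator φ.range = ⊤) (hprim : IsPreprimitive φ.range α) (b : α)
    (hsolv : Group.IsSolvable (stabilizer φ.range b)) :
    Nat.card (Subgroup.center (Subgroup.centralizer ({x} : Set G))) = 3 ∧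
      IsSimpleGroup (Subgroup.centralizer ({x} : Set G) ⧸
        Subgroup.center (Subgroup.centralizer ({x} : Set G))) ∧
      Nat.card (Subgroup.centralizer ({x} : Set G) ⧸
        Subgroup.center (Subgroup.centralizer ({x} : Set G))) = 898128000 := by
  classical
  have hZcard : Nat.card (Subgroup.zpowers (selfC x)) = 3 := by
    rw [Nat.card_zpowers, ← Subgroup.orderOf_coe]
    exact hord
  have hQcard : Nat.card (QC x) = 898128000 := by
    have h := Subgroup.card_eq_card_quotient_mul_card_subgroup (Subgroup.zpowers (selfC x))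
    rw [D.centralizer_card hx hM, hZcard] at h
    show Nat.card (_ ⧸ _) = _
    omega
  letI actQ : MulAction (QC x) (Fixed N x) := MulAction.compHom _ (fixedHom N x hx)
  let a : Fixed N x := ⟨((1 : G) : G ⧸ N), mem_orbit_self _⟩
  have hsmul : ∀ (c : Subgroup.centralizer ({x} : Set G)) (p : Fixed N x),
      (QuotientGroup.mk c : QC x) • p = c • p := fun c p => rfl
  haveI : IsPretransitive (QC x) (Fixed N x) := by
    constructor
    intro p q
    obtain ⟨c, hc⟩ := exists_smul_eq (Subgroup.centralizer ({x} : Set G)) p q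
    exact ⟨QuotientGroup.mk c, hc⟩
  -- the point stabiliser is the image of `C_N(x)`
  let π : cN N x →* stabilizer (QC x) a :=
    ((QuotientGroup.mk' (Subgroup.zpowers (selfC x))).comp (cN N x).subtype).codRestrict _
      fun c => by
        have hc : (c : Subgroup.centralizer ({x} : Set G)) ∈
            stabilizer (Subgroup.centralizer ({x} : Set G)) ((1 : G) : G ⧸ N) := by
          rw [stabilizer_base]; exact c.2
        exact Subtype.ext (show (c : Subgroup.centralizer ({x} : Set G)) • ((1 : G) : G ⧸ N) =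
          ((1 : G) : G ⧸ N) from mem_stabilizer_iff.1 hc)
  have hπ : Function.Surjective π := by
    rintro ⟨q, hq⟩
    obtain ⟨c, rfl⟩ := QuotientGroup.mk_surjective q
    have hc : c ∈ cN N x := by
      rw [← stabilizer_base, mem_stabilizer_iff]
      exact congrArg Subtype.val (mem_stabilizer_iff.1 hq)
    exact ⟨⟨c, hc⟩, rfl⟩
  have hπker : π.ker = φ.ker := by
    rw [hker]
    ext c
    rw [MonoidHom.mem_ker, Subgroup.mem_subgroupOf, ← Subtype.coe_injective.eq_iff]
    exact QuotientGroup.eq_one_iff _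
  let e : stabilizer (QC x) a ≃* φ.range :=
    (QuotientGroup.quotientKerEquivOfSurjective π hπ).symm.trans
      ((QuotientGroup.quotientMulEquivOfEq hπker).trans (QuotientGroup.quotientKerEquivRange φ))
  haveI : FaithfulSMul φ.range α := ⟨fun {g g'} hgg => Subtype.ext (Equiv.ext hgg)⟩
  haveI := hprim
  have hstab : ∀ J : Subgroup (stabilizer (QC x) a), J.Normal → J = ⊥ ∨ J = ⊤ := by
    intro J hJ
    rcases normal_eq_bot_or_top hperf b hsolv (J.map e.toMonoidHom)
      (hJ.map e.toMonoidHom e.surjective) with h | h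
    · left
      exact (Subgroup.map_eq_bot_iff_of_injective J e.injective).1 h
    · right
      refine Subgroup.map_injective e.injective (h.trans ?_)
      rw [Subgroup.map_top_of_surjective e.toMonoidHom e.surjective]
  have hQs : IsSimpleGroup (QC x) :=
    simple_of_action a hQcard (D.fixed_card hx) hstab (fun p => D.cls p.1)
      (by show D.cls ((1 : G) : G ⧸ N) = 0; rw [← D.h_zero, D.cls_h])
      (D.fibre_ncard hx) (fun p q hpq => by
        have h1 : p ∈ (fun r : Fixed N x => D.cls r.1) ⁻¹' {D.cls p.1} := rfl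
        have h2 : q ∈ (fun r : Fixed N x => D.cls r.1) ⁻¹' {D.cls p.1} := hpq.symm
        rw [D.fibre_eq hx] at h1 h2
        obtain ⟨c, hc⟩ := h1
        obtain ⟨d, hd⟩ := h2
        refine ⟨(π (d * c⁻¹) : QC x), (π (d * c⁻¹)).2, ?_⟩
        refine Subtype.ext ?_
        show ((d * c⁻¹ : cN N x) : Subgroup.centralizer ({x} : Set G)) • p.1 = q.1
        have hc' : c • (D.pt (D.cls p.1)).1 = p.1 := congrArg Subtype.val hc
        have hd' : d • (D.pt (D.cls p.1)).1 = q.1 := congrArg Subtype.val hd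
        conv_lhs => rw [← hc']
        rw [← hd']
        show (d * c⁻¹) • c • (D.pt (D.cls p.1)).1 = d • (D.pt (D.cls p.1)).1
        rw [← mul_smul, inv_mul_cancel_right])
  have hnc : ∃ u v : QC x, u * v ≠ v * u := by
    by_contra hc
    push_neg at hc
    haveI := hQs
    have hcm : IsMulCommutative (QC x) := ⟨⟨hc⟩⟩
    letI : CommGroup (QC x) := { (inferInstance : Group (QC x)) with mul_comm := hc }
    have hp := (IsSimpleGroup.prime_card : (Nat.card (QC x)).Prime)
    rw [hQcard] at hp
    exact absurd (hp.eq_one_or_self_of_dvd 2 (by norm_num)) (by norm_num)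
  have hcent : Subgroup.center (Subgroup.centralizer ({x} : Set G)) =
      Subgroup.zpowers (selfC x) :=
    center_eq_of_simple_quotient _ (Subgroup.zpowers_le.2 (Subgroup.mem_center_iff.2 fun c =>
      (selfC_central x c).symm)) hQs hnc
  have e2 := QuotientGroup.quotientMulEquivOfEq hcent
  refine ⟨by rw [hcent, hZcard], ?_, ?_⟩
  · haveI := hQs
    exact e2.isSimpleGroup (H := QC x)
  · rw [Nat.card_congr e2.toEquiv]
    exact hQcard

end H11.Ly3A
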