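import Cfsg.Agent.H23.DC.Bound

/-!
When the index equals the bound of a double coset certificate, the base cosets lie in distinct
orbits and their stabilisers are the recorded ones.
-/

set_option autoImplicit false

namespace H11.Ly3A

open H23.DC

variable {N : Type*} [Group N] {E : Setting N} {G : Type*} [Group G] {A : Amalgam E G}
  {tl : List ℕ} {K : Known} (hK : A.Valid tl K) (hdone : E.D.done K = true) (hr : 0 < E.D.r)

include hK hdone hr

/-- every coset is in the orbit of a base coset -/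
theorem exists_orbit [Finite N] (y : A.Cos) :
    ∃ i : Fin E.D.r, ∃ n : N, A.ι n • A.q tl i = y := by
  obtain ⟨i, hi, n, hn⟩ := A.reached_all hK hdone hr y
  exact ⟨⟨i, hi⟩, n, hn⟩

/-- the orbits are distinct, and so are the stabilisers' cosets -/
theorem orbit_inj [Finite N] (hidx : A.ι.range.index = ∑ i ∈ Finset.range E.D.r, (E.stab i).index)
    {i j : Fin E.D.r} {n m : N} (h : A.ι n • A.q tl i = A.ι m • A.q tl j) :
    i = j ∧ (n⁻¹ * m) ∈ E.stab i := by
  classical
  have hwd : ∀ (i : Fin E.D.r) (n : N),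
      A.ι (QuotientGroup.mk n : N ⧸ E.stab i).out • A.q tl i = A.ι n • A.q tl i := by
    intro i n
    obtain ⟨u, hu⟩ := QuotientGroup.mk_out_eq_mul (E.stab i) n
    rw [hu, map_mul, mul_smul, A.stab_fix hK hdone i.2 u.2]
  let f : (Σ i : Fin E.D.r, N ⧸ E.stab i) → A.Cos := fun x => A.ι x.2.out • A.q tl x.1
  have hsurj : Function.Surjective f := by
    intro y
    obtain ⟨i, n, rfl⟩ := exists_orbit hK hdone hr y
    exact ⟨⟨i, QuotientGroup.mk n⟩, hwd i n⟩
  haveI : Finite A.Cos := Finite.of_surjective f hsurj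
  have hcard : Nat.card (Σ i : Fin E.D.r, N ⧸ E.stab i) = Nat.card A.Cos := by
    rw [Nat.card_sigma, ← Subgroup.index_eq_card, hidx, Finset.sum_range]
    rfl
  have hbij : Function.Bijective f := (Nat.bijective_iff_surjective_and_card f).2 ⟨hsurj, hcard⟩
  have he : f ⟨i, QuotientGroup.mk n⟩ = f ⟨j, QuotientGroup.mk m⟩ := by
    show A.ι (QuotientGroup.mk n : N ⧸ E.stab i).out • A.q tl i =
      A.ι (QuotientGroup.mk m : N ⧸ E.stab j).out • A.q tl j
    rw [hwd, hwd, h]
  have := hbij.1 he
  obtain ⟨rfl, hq⟩ := Sigma.mk.inj_iff.1 this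
  exact ⟨rfl, QuotientGroup.eq.1 (eq_of_heq hq)⟩

/-- the stabiliser of a base coset is the recorded one -/
theorem fix_iff [Finite N] (hidx : A.ι.range.index = ∑ i ∈ Finset.range E.D.r, (E.stab i).index)
    (i : Fin E.D.r) (n : N) : A.ι n • A.q tl i = A.q tl i ↔ n ∈ E.stab i := by
  refine ⟨fun h => ?_, fun h => A.stab_fix hK hdone i.2 h⟩
  have := (orbit_inj hK hdone hr hidx (i := i) (j := i) (n := 1) (m := n)
    (by rw [map_one, one_smul, h])).2
  simpa using this

end H11.Ly3A
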