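import Cfsg.Agent.H11.Ly3A.Main
import Cfsg.Agent.H97.Ly.Upper
import Cfsg.Agent.H97.Ly.NInst
import Cfsg.Agent.H68.Ly.QBound

/-!
Everything the element of order 3 needs follows from the order of the presented Lyons group.
-/

set_option autoImplicit false

namespace H11.Ly3A

theorem n0_bound : Finite H23.Ly.N0 ∧ Nat.card H23.Ly.N0 ≤ 5859000000 := by
  have hf := H68.Ly.Rels.closure_finite H23.Ly.n0_rels
  have hc := H68.Ly.Rels.card_le H23.Ly.n0_rels
  rw [H23.Ly.n0_closure] at hf hc
  exact ⟨Finite.of_equiv _ Subgroup.topEquiv.toEquiv, by rwa [Subgroup.card_top] at hc⟩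

/-- the model is exact once the presented group has the Lyons order -/
theorem exact_of_isLy {N : Type} [Group N] (M : H97.Ly.NModel N) (hLy : Cfsg.IsLy Cfsg.Spor.Ly) :
    Function.Injective M.ι ∧ H97.Ly.abcd.index = 8835156 := by
  haveI := M.finite
  obtain ⟨-, hi⟩ := M.abcd_index_le
  have hr : Nat.card H97.Ly.abcd ≤ 5859000000 := by
    rw [← M.range_eq, ← M.card]
    exact Nat.card_le_card_of_surjective _ M.ι.rangeRestrict_surjective
  have hmul : H97.Ly.abcd.index * Nat.card H97.Ly.abcd = 8835156 * 5859000000 := by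
    rw [Subgroup.index_mul_card, hLy.2]
  have hidx : H97.Ly.abcd.index = 8835156 := by
    refine le_antisymm hi ?_
    by_contra hlt
    rw [not_le] at hlt
    have := Nat.mul_lt_mul_of_lt_of_le hlt hr (by norm_num)
    omega
  refine ⟨?_, hidx⟩
  have hc : Nat.card H97.Ly.abcd = 5859000000 := by
    rw [hidx] at hmul
    exact Nat.eq_of_mul_eq_mul_left (by norm_num) hmul
  have hb : Function.Bijective M.ι.rangeRestrict := by
    refine (Nat.bijective_iff_surjective_and_card _).mpr ⟨M.ι.rangeRestrict_surjective, ?_⟩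
    rw [M.card, ← hc, M.range_eq]
  intro x y h
  exact hb.1 (Subtype.ext h)

/-- the statement about the element of order 3, from simplicity and order alone -/
theorem exists_of_isLy (hLy : Cfsg.IsLy Cfsg.Spor.Ly) :
    ∃ (G : Type) (_ : Group G) (_ : Finite G), Cfsg.IsLy G ∧ ∃ x : G, orderOf x = 3 ∧
      Nat.card (Subgroup.center (Subgroup.centralizer ({x} : Set G))) = 3 ∧
      Cfsg.IsMcL ((Subgroup.centralizer ({x} : Set G)) ⧸
        Subgroup.center (Subgroup.centralizer ({x} : Set G))) := by
  haveI := n0_bound.1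
  let M := H97.Ly.Inst.model n0_bound.2
  obtain ⟨hι, hidx⟩ := exact_of_isLy M hLy
  obtain ⟨x, hx⟩ := ly_centralizer M hLy hι hidx
  exact ⟨Cfsg.Spor.Ly, inferInstance, Nat.finite_of_card_ne_zero (by rw [hLy.2]; decide), hLy, x, hx⟩

end H11.Ly3A
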