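import Cfsg.Agent.H11.Ly3A.Pairs
import Cfsg.Agent.H77.HN.Words

/-!
The centraliser of an element in a group given on numbered points: its order, and its action on the
pairs of fixed points, from finite checks.
-/

set_option autoImplicit false

namespace H11.Ly3A

open H77.HN (evw invw agree run runK runK_eq Rep)
open scoped Pointwise

/-- the data -/
structure LocalData where
  /-- the element -/
  X : List ℕ
  /-- two further generators of its centraliser -/
  U : List ℕ
  V : List ℕ
  /-- a word carrying 0 to the first fixed point -/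
  n1 : List ℕ
  /-- the fixed points, in pairs -/
  F : List ℕ
  /-- images of the indices of `F` under `U`, `V` and their inverses -/
  pu : List (List ℕ)
  /-- words in the stabiliser of 0 giving distinct conjugates -/
  K : List (List ℕ)
  /-- orbit witnesses, on the pairs: transitive, transitive outside 0, and fixing 0 and 1 -/
  W1 : List (List ℕ)
  W2 : List (List ℕ)
  W3 : List (List ℕ)
  /-- the two generators on the pairs as products of two commutators -/
  CU : List ℕ × List ℕ × List ℕ × List ℕ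
  CV : List ℕ × List ℕ × List ℕ × List ℕ

namespace LocalData

variable (L : LocalData) (T : ℕ → ℕ → ℕ) (B : List ℕ)

/-- the four letters of the centraliser -/
def letter : ℕ → List ℕ
  | 0 => L.U
  | 1 => L.V
  | 2 => invw (fun l => l ^^^ 1) L.U
  | 3 => invw (fun l => l ^^^ 1) L.V
  | _ => []

/-- image of an index of a fixed point -/
def img (l k : ℕ) : ℕ := (L.pu.getD l []).getD k k

/-- image of a pair -/
def T2 (l j : ℕ) : ℕ := L.img l (2 * j) / 2

/-- the word of a commutator -/
def commW (a b : List ℕ) : List ℕ :=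
  invw (fun l => (l + 2) % 4) b ++ invw (fun l => (l + 2) % 4) a ++ b ++ a

/-- the product of two commutators -/
def commW2 (p : List ℕ × List ℕ × List ℕ × List ℕ) : List ℕ :=
  commW p.1 p.2.1 ++ commW p.2.2.1 p.2.2.2

/-- the element has order three and the generators commute with it -/
noncomputable def chkRel : Bool :=
  agree T B (L.X ++ L.X ++ L.X) [] && !agree T B L.X [] &&
    agree T B (L.U ++ L.X) (L.X ++ L.U) && agree T B (L.V ++ L.X) (L.X ++ L.V) &&
    agree T B (L.letter 2 ++ L.X) (L.X ++ L.letter 2) &&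
    agree T B (L.letter 3 ++ L.X) (L.X ++ L.letter 3)

/-- the list of fixed points -/
noncomputable def chkF : Bool :=
  decide (L.F.length = 252) && (List.range 252).all (fun k =>
    decide (L.F.getD k 0 < 19530) && Nat.beq (runK T L.X (L.F.getD k 0)) (L.F.getD k 0)) &&
    decide L.F.Nodup && Nat.beq (runK T L.n1 0) (L.F.getD 0 0)

/-- all fixed points with numbers from `lo` on are listed -/
noncomputable def chkComplete (lo n : ℕ) : Bool :=
  (List.range' lo n).all fun p => bif Nat.beq (runK T L.X p) p then L.F.contains p else true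

/-- the images of the fixed points -/
noncomputable def chkImg : Bool :=
  (List.range 4).all fun l => (List.range 252).all fun k =>
    decide (L.img l k < 252) && Nat.beq (runK T (L.letter l) (L.F.getD k 0)) (L.F.getD (L.img l k) 0)
      && decide (L.img l (if k % 2 = 0 then k + 1 else k - 1) =
        if L.img l k % 2 = 0 then L.img l k + 1 else L.img l k - 1)

/-- distinct conjugates in the stabiliser of 0 -/
noncomputable def chkK : Bool :=
  decide (L.K.length = 200) && L.K.all (fun w => Nat.beq (runK T w 0) 0) &&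
    decide (L.K.map fun w => B.map fun b =>
      runK T (invw (fun l => l ^^^ 1) w ++
        (L.n1 ++ L.X ++ invw (fun l => l ^^^ 1) L.n1) ++ w) b).Nodup

/-- the orbits on pairs -/
def chkOrb : Bool :=
  (List.range 126).all (fun q => (L.W1.getD q []).all (fun l => decide (l < 4)) &&
    decide (run L.T2 (L.W1.getD q []) 0 = q)) &&
  (List.range 125).all (fun q => (L.W2.getD q []).all (fun l => decide (l < 4)) &&
    decide (run L.T2 (L.W2.getD q []) 0 = 0) &&
    decide (run L.T2 (L.W2.getD q []) 1 = q + 1)) &&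
  decide (L.W3.length = 8) && L.W3.all (fun w => w.all (fun l => decide (l < 4)) &&
    decide (run L.T2 w 0 = 0) && decide (run L.T2 w 1 = 1)) &&
  decide (L.W3.map fun w => run L.T2 w 2).Nodup

/-- the generators on pairs are products of commutators -/
def chkPerf : Bool :=
  [L.CU.1, L.CU.2.1, L.CU.2.2.1, L.CU.2.2.2, L.CV.1, L.CV.2.1, L.CV.2.2.1, L.CV.2.2.2].all
    (fun w => w.all fun l => decide (l < 4)) &&
  (List.range 126).all fun q => decide (run L.T2 (commW2 L.CU) q = L.T2 0 q) &&
    decide (run L.T2 (commW2 L.CV) q = L.T2 1 q)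

end LocalData

set_option maxHeartbeats 2000000 in
open LocalData in
theorem local_centralizer {N : Type*} [Group N] [Finite N] {gen : ℕ → N} {T : ℕ → ℕ → ℕ}
    {B : List ℕ} (R : Rep gen 19530 T) (hB : R.IsBase B)
    (hinv : ∀ l, gen (l ^^^ 1) = (gen l)⁻¹)
    (hH0 : Nat.card (R.fixPt ⟨0, by norm_num⟩) = 300000) (L : LocalData)
    (h1 : L.chkRel T B = true) (h2 : L.chkF T = true)
    (h3 : ∀ p < 19530, run T L.X p = p → p ∈ L.F) (h4 : L.chkImg T = true)
    (h5 : L.chkK T B = true) (h6 : L.chkOrb = true) (h7 : L.chkPerf = true) :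
    orderOf (evw gen L.X) = 3 ∧ Nat.card (Subgroup.centralizer {evw gen L.X}) = 378000 ∧
    (∀ p : Fin 19530, R.φ (evw gen L.X) p = p → ∃ c : Subgroup.centralizer {evw gen L.X},
      R.φ c (R.φ (evw gen L.n1) ⟨0, by norm_num⟩) = p) ∧
    (Subgroup.index (Subgroup.comap (Subgroup.centralizer {evw gen L.X}).subtype
      (R.fixPt (R.φ (evw gen L.n1) ⟨0, by norm_num⟩))) = 252) ∧
    ∃ φ : Subgroup.centralizer {evw gen L.X} →* Equiv.Perm (Fin 126),
      φ.ker = (Subgroup.zpowers (evw gen L.X)).subgroupOf _ ∧ commutator φ.range = ⊤ ∧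
      MulAction.IsPreprimitive φ.range (Fin 126) ∧
      Group.IsSolvable (MulAction.stabilizer φ.range (0 : Fin 126)) := by
  classical
  simp only [chkRel, Bool.and_eq_true, Bool.not_eq_true'] at h1
  obtain ⟨⟨⟨⟨⟨h13, h1n⟩, h1u⟩, h1v⟩, h1u'⟩, h1v'⟩ := h1
  simp only [chkF, Bool.and_eq_true, decide_eq_true_eq, List.all_eq_true, List.mem_range,
    Nat.beq_eq, runK_eq] at h2
  obtain ⟨⟨⟨hFlen, hFfix⟩, hFnd⟩, hn1⟩ := h2
  simp only [chkImg, Bool.and_eq_true, List.all_eq_true, List.mem_range, decide_eq_true_eq,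
    Nat.beq_eq, runK_eq] at h4
  simp only [chkK, Bool.and_eq_true, decide_eq_true_eq, List.all_eq_true, Nat.beq_eq,
    runK_eq] at h5
  obtain ⟨⟨hKlen, hK0⟩, hKnd⟩ := h5
  simp only [chkOrb, Bool.and_eq_true, List.all_eq_true, List.mem_range, decide_eq_true_eq] at h6
  obtain ⟨⟨⟨⟨hW1, hW2⟩, hW3l⟩, hW3⟩, hW3nd⟩ := h6
  simp only [chkPerf, Bool.and_eq_true, List.all_eq_true, List.mem_range, decide_eq_true_eq] at h7
  obtain ⟨hPlet, hP⟩ := h7
  set x := evw gen L.X with hx
  set p0 : Fin 19530 := ⟨0, by norm_num⟩ with hp0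
  have hx3 : x ^ 3 = 1 := by
    have := R.evw_eq_of_agree hB h13
    simp only [H77.HN.evw_append, H77.HN.evw_nil] at this
    rw [pow_succ, pow_two]
    exact (mul_assoc _ _ _).trans this
  have hx1 : x ≠ 1 := by
    intro h
    have hag : agree T B L.X [] = true := by
      refine List.all_eq_true.2 fun b hb => ?_
      rw [Nat.beq_eq, runK_eq, runK_eq]
      have h' := R.evw_apply L.X ⟨b, hB.1 b hb⟩
      rw [show evw gen L.X = 1 from h, map_one] at h'
      simpa [run] using h'.symm
    rw [hag] at h1n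
    exact absurd h1n (by simp)
  have hord : orderOf x = 3 := orderOf_eq_prime hx3 hx1
  -- the four letters centralise
  have hlet : ∀ l, evw gen (L.letter l) ∈ Subgroup.centralizer {x} := by
    intro l
    rw [Subgroup.mem_centralizer_singleton_iff]
    have hgo : ∀ w, agree T B (w ++ L.X) (L.X ++ w) = true → evw gen w * x = x * evw gen w := by
      intro w hw
      have := R.evw_eq_of_agree hB hw
      simp only [H77.HN.evw_append] at this
      exact this.symm
    rcases l with _ | _ | _ | _ | l
    · exact hgo _ h1u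
    · exact hgo _ h1v
    · exact hgo _ h1u'
    · exact hgo _ h1v'
    · simp [LocalData.letter]
  let lc : ℕ → Subgroup.centralizer {x} := fun l => ⟨evw gen (L.letter l), hlet l⟩
  have hlc2 : lc 2 = (lc 0)⁻¹ := Subtype.ext (H77.HN.evw_invw hinv L.U)
  have hlc3 : lc 3 = (lc 1)⁻¹ := Subtype.ext (H77.HN.evw_invw hinv L.V)
  -- the fixed points
  let f : Fin 252 → Fin 19530 := fun k => ⟨L.F.getD k.val 0, (hFfix k k.2).1⟩
  have hfinj : Function.Injective f := by
    intro i j hij
    have h := congrArg Fin.val hij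
    simp only [f] at h
    rw [List.getD_eq_getElem _ _ (by omega), List.getD_eq_getElem _ _ (by omega)] at h
    exact Fin.ext ((List.Nodup.getElem_inj_iff hFnd).1 h)
  have hfx : ∀ k, R.φ x (f k) = f k := fun k =>
    Fin.ext (by rw [hx, R.evw_apply]; exact (hFfix k k.2).2)
  have hfsurj : ∀ p : Fin 19530, R.φ x p = p → ∃ k, f k = p := by
    intro p hp
    have h : run T L.X p = p := by rw [← R.evw_apply, ← hx, hp]
    obtain ⟨i, hi, hie⟩ := List.getElem_of_mem (h3 p p.2 h)
    exact ⟨⟨i, hFlen ▸ hi⟩, Fin.ext (by simp only [f]; rw [List.getD_eq_getElem _ _ hi, hie])⟩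
  have hfxc : ∀ (c : Subgroup.centralizer {x}) (k : Fin 252),
      R.φ x (R.φ c (f k)) = R.φ c (f k) := by
    intro c k
    rw [← Equiv.Perm.mul_apply, ← map_mul, ← Subgroup.mem_centralizer_singleton_iff.1 c.2, map_mul,
      Equiv.Perm.mul_apply, hfx]
  let idx : Subgroup.centralizer {x} → Fin 252 → Fin 252 := fun c k =>
    (hfsurj _ (hfxc c k)).choose
  have hidx : ∀ c k, f (idx c k) = R.φ c (f k) := fun c k => (hfsurj _ (hfxc c k)).choose_spec
  have hidx1 : ∀ k, idx 1 k = k := fun k => hfinj (by rw [hidx]; simp)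
  have hidxm : ∀ c d k, idx (c * d) k = idx c (idx d k) := fun c d k =>
    hfinj (by rw [hidx, hidx, hidx, Subgroup.coe_mul, map_mul, Equiv.Perm.mul_apply])
  letI act : MulAction (Subgroup.centralizer {x}) (Fin 252) :=
    { smul := idx, one_smul := hidx1, mul_smul := hidxm }
  let θ : Subgroup.centralizer {x} →* Equiv.Perm (Fin (2 * 126)) :=
    MulAction.toPermHom (Subgroup.centralizer {x}) (Fin 252)
  have hθ : ∀ c k, θ c k = idx c k := fun c k => rfl
  -- images of the letters
  have himg : ∀ l < 4, ∀ k : Fin 252, (idx (lc l) k : ℕ) = L.img l k := by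
    intro l hl k
    obtain ⟨⟨hlt, hrun⟩, -⟩ := h4 l hl k k.2
    have h : f (idx (lc l) k) = f ⟨L.img l k, hlt⟩ := by
      rw [hidx]
      exact Fin.ext (by rw [R.evw_apply]; exact hrun)
    exact congrArg Fin.val (hfinj h)
  have hpairL : ∀ l < 4, θ (lc l) ∈ PairGroup 126 := by
    intro l hl
    rw [Subgroup.mem_centralizer_singleton_iff]
    refine Equiv.ext fun k => Fin.ext ?_
    rw [Equiv.Perm.mul_apply, Equiv.Perm.mul_apply, pairSwap_val, hθ, hθ, himg l hl, himg l hl,
      pairSwap_val]
    exact (h4 l hl k k.2).2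
  -- the generated subgroup
  let M : Subgroup (Subgroup.centralizer {x}) :=
    Subgroup.closure {lc 0, lc 1, ⟨x, Subgroup.mem_centralizer_singleton_iff.2 rfl⟩}
  have hθx : θ ⟨x, Subgroup.mem_centralizer_singleton_iff.2 rfl⟩ = 1 :=
    Equiv.ext fun k => hfinj (by rw [hθ, hidx]; exact hfx k)
  have hMpair : M ≤ (PairGroup 126).comap θ := by
    rw [Subgroup.closure_le]
    rintro c (rfl | rfl | rfl)
    · exact hpairL 0 (by norm_num)
    · exact hpairL 1 (by norm_num)
    · show θ _ ∈ PairGroup 126
      rw [hθx]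
      exact one_mem _
  have hlM : ∀ l < 4, lc l ∈ M := by
    intro l hl
    have h0 : lc 0 ∈ M := Subgroup.subset_closure (by simp)
    have h1' : lc 1 ∈ M := Subgroup.subset_closure (by simp)
    interval_cases l
    · exact h0
    · exact h1'
    · rw [hlc2]; exact M.inv_mem h0
    · rw [hlc3]; exact M.inv_mem h1'
  let ψM : M →* Equiv.Perm (Fin 126) :=
    (pairHom 126).comp ((θ.comp M.subtype).codRestrict (PairGroup 126) fun c => hMpair c.2)
  let gm : ℕ → M := fun l => if h : l < 4 then ⟨lc l, hlM l h⟩ else 1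
  have hgmi : ∀ l < 4, gm ((l + 2) % 4) = (gm l)⁻¹ := by
    intro l hl
    have e : ∀ (a : ℕ) (h : a < 4), gm a = ⟨lc a, hlM a h⟩ := fun a h => dif_pos h
    interval_cases l <;>
      (rw [e _ (by norm_num), e _ (by norm_num)]; refine Subtype.ext ?_)
    · exact hlc2
    · exact hlc3
    · show lc 0 = (lc 2)⁻¹; rw [hlc2, inv_inv]
    · show lc 1 = (lc 3)⁻¹; rw [hlc3, inv_inv]
  have hψ : ∀ l < 4, ∀ j : Fin 126, (ψM (gm l) j : ℕ) = L.T2 l j := by
    intro l hl j
    show ((pairOf 126 (θ (gm l : Subgroup.centralizer {x}) (pairRep 126 j))) : ℕ) = _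
    simp only [pairOf, hθ]
    rw [show (gm l : Subgroup.centralizer {x}) = lc l by simp only [gm, dif_pos hl], himg l hl]
    rfl
  have hrunψ : ∀ w : List ℕ, (∀ l ∈ w, l < 4) → ∀ j : Fin 126,
      (ψM (evw gm w) j : ℕ) = run L.T2 w j := by
    intro w
    induction w with
    | nil => intro _ j; simp [run]
    | cons l w ih =>
      intro hw j
      simp only [List.mem_cons, forall_eq_or_imp] at hw
      rw [H77.HN.evw_cons, map_mul, Equiv.Perm.mul_apply, ih hw.2, hψ l hw.1]
      rfl
  -- orbits on the pairs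
  letI actM : MulAction M (Fin 126) := MulAction.compHom _ ψM
  letI actR : MulAction ψM.range (Fin 126) := inferInstance
  have ho1 : ∀ q : Fin 126, ∃ h : ψM.range, h • (0 : Fin 126) = q := fun q =>
    ⟨⟨_, evw gm (L.W1.getD q []), rfl⟩, Fin.ext (by
      show (ψM _ (0 : Fin 126) : ℕ) = _
      rw [hrunψ _ (hW1 q q.2).1]; exact (hW1 q q.2).2)⟩
  have ho2 : ∀ q : Fin 126, q ≠ 0 → ∃ h : ψM.range, h • (0 : Fin 126) = 0 ∧
      h • (1 : Fin 126) = q := by
    intro q hq
    have hq' : q.val - 1 < 125 := by have := q.2; omega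
    obtain ⟨⟨hl, h0⟩, h1q⟩ := hW2 _ hq'
    refine ⟨⟨_, evw gm (L.W2.getD (q.val - 1) []), rfl⟩, Fin.ext ?_, Fin.ext ?_⟩
    · show (ψM _ (0 : Fin 126) : ℕ) = _
      rw [hrunψ _ hl]; exact h0
    · show (ψM _ (1 : Fin 126) : ℕ) = _
      rw [hrunψ _ hl]
      exact h1q.trans (by have : q.val ≠ 0 := fun h => hq (Fin.ext h); omega)
  have hw3lt : ∀ k : Fin 8, ∀ l ∈ L.W3.getD k [], l < 4 := fun k => (hW3 _ (by
    rw [List.getD_eq_getElem _ _ (by omega)]; exact List.getElem_mem _)).1.1
  let f3 : Fin 8 → Fin 126 := fun k => ψM (evw gm (L.W3.getD k [])) 2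
  have hf3 : Function.Injective f3 := by
    intro i j hij
    have h := congrArg Fin.val hij
    simp only [f3] at h
    rw [hrunψ _ (hw3lt i), hrunψ _ (hw3lt j)] at h
    have h' := (List.Nodup.getElem_inj_iff hW3nd (i := i.val) (j := j.val)
      (hi := by simp [hW3l]) (hj := by simp [hW3l])).1 (by
        simp only [List.getElem_map]
        rwa [List.getD_eq_getElem _ _ (by omega), List.getD_eq_getElem _ _ (by omega)] at h)
    exact Fin.ext h'
  have ho3 : ∀ k, ∃ h : ψM.range, h • (0 : Fin 126) = 0 ∧ h • (1 : Fin 126) = 1 ∧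
      h • (2 : Fin 126) = f3 k := by
    intro k
    obtain ⟨⟨hl, h0⟩, h1k⟩ := hW3 (L.W3.getD k []) (by
      rw [List.getD_eq_getElem _ _ (by omega)]; exact List.getElem_mem _)
    refine ⟨⟨_, evw gm (L.W3.getD k []), rfl⟩, Fin.ext ?_, Fin.ext ?_, rfl⟩
    · show (ψM _ (0 : Fin 126) : ℕ) = _
      rw [hrunψ _ hl]; exact h0
    · show (ψM _ (1 : Fin 126) : ℕ) = _
      rw [hrunψ _ hl]; exact h1k
  have hlow : 126000 ≤ Nat.card ψM.range := by
    have := le_card_of_orbits (H := ψM.range) (0 : Fin 126) 1 2 8 f3 hf3 ho1 ho2 ho3 (by decide)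
    simpa using this
  -- the order of the centraliser
  let xc : Subgroup.centralizer {x} := ⟨x, Subgroup.mem_centralizer_singleton_iff.2 rfl⟩
  have hxcM : xc ∈ M := Subgroup.subset_closure (by simp [xc])
  have hordc : orderOf xc = 3 := by rw [← Subgroup.orderOf_coe]; exact hord
  have hxker : Subgroup.zpowers (⟨xc, hxcM⟩ : M) ≤ ψM.ker := by
    rw [Subgroup.zpowers_le, MonoidHom.mem_ker]
    show pairHom 126 _ = 1
    rw [show ((θ.comp M.subtype).codRestrict (PairGroup 126) fun c => hMpair c.2)
      (⟨xc, hxcM⟩ : M) = 1 from Subtype.ext hθx, map_one]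
  have hker3 : 3 ≤ Nat.card ψM.ker := by
    have h := Subgroup.card_le_of_le hxker
    rw [Nat.card_zpowers, ← Subgroup.orderOf_coe] at h
    simpa [hordc] using h
  have hMcard : Nat.card ψM.range * Nat.card ψM.ker = Nat.card M := by
    rw [← Subgroup.index_ker, mul_comm]
    exact Subgroup.card_mul_index _
  have hst1500 : Nat.card (MulAction.stabilizer (Subgroup.centralizer {x})
      (⟨0, by norm_num⟩ : Fin 252)) ≤ 1500 := by
    set n := evw gen L.n1 with hn
    have hp1 : R.φ n p0 = f ⟨0, by norm_num⟩ := Fin.ext (by rw [R.evw_apply]; exact hn1)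
    set y := n⁻¹ * x * n with hy
    have hye : y = evw gen (L.n1 ++ L.X ++ invw (fun l => l ^^^ 1) L.n1) := by
      simp only [H77.HN.evw_append, H77.HN.evw_invw hinv, hy, hx, hn, mul_assoc]
    letI : MulAction (R.fixPt p0) N := MulAction.compHom N
      ((MulAut.conj (G := N)).comp (R.fixPt p0).subtype)
    have hsm : ∀ (s : R.fixPt p0) (e : N), s • e = (s : N) * e * (s : N)⁻¹ := fun s e => rfl
    have h200 : 200 ≤ (MulAction.orbit (R.fixPt p0) y).ncard := by
      let F' : Fin 200 → N := fun k => evw gen (invw (fun l => l ^^^ 1) (L.K.getD k []) ++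
        (L.n1 ++ L.X ++ invw (fun l => l ^^^ 1) L.n1) ++ L.K.getD k [])
      have hinj : Function.Injective F' := by
        intro i j hij
        have hi : i.val < L.K.length := by omega
        have hj : j.val < L.K.length := by omega
        refine Fin.ext ((List.Nodup.getElem_inj_iff hKnd (hi := by simpa using hi)
          (hj := by simpa using hj)).1 ?_)
        simp only [List.getElem_map, ← List.getD_eq_getElem _ [] hi,
          ← List.getD_eq_getElem _ [] hj]
        refine List.map_congr_left fun b hb => ?_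
        rw [← R.evw_apply _ ⟨b, hB.1 b hb⟩, ← R.evw_apply _ ⟨b, hB.1 b hb⟩]
        exact congrArg (fun g => (R.φ g ⟨b, hB.1 b hb⟩ : ℕ)) hij
      have hsub : Set.range F' ⊆ MulAction.orbit (R.fixPt p0) y := by
        rintro _ ⟨k, rfl⟩
        have hmem : evw gen (L.K.getD k []) ∈ R.fixPt p0 := by
          rw [Rep.mem_fixPt]
          refine Fin.ext ?_
          rw [R.evw_apply]
          exact hK0 _ (by rw [List.getD_eq_getElem _ _ (by omega)]; exact List.getElem_mem _)
        refine ⟨⟨_, hmem⟩, ?_⟩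
        show _ • y = _
        rw [hsm, hye]
        simp only [F', H77.HN.evw_append, H77.HN.evw_invw hinv, mul_assoc]
      have := Set.ncard_le_ncard hsub (Set.toFinite _)
      rwa [Set.ncard_range_of_injective hinj, Nat.card_eq_fintype_card, Fintype.card_fin] at this
    have hst := (MulAction.stabilizer (R.fixPt p0) y).card_mul_index
    rw [MulAction.index_stabilizer, hH0] at hst
    have h1500 : Nat.card (MulAction.stabilizer (R.fixPt p0) y) ≤ 1500 := by nlinarith
    -- stabiliser of the first fixed point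
    have hstab : Nat.card (MulAction.stabilizer (Subgroup.centralizer {x}) (⟨0, by norm_num⟩ : Fin 252))
        ≤ Nat.card (MulAction.stabilizer (R.fixPt p0) y) := by
      have hcfix : ∀ c : MulAction.stabilizer (Subgroup.centralizer {x}) (⟨0, by norm_num⟩ : Fin 252),
          R.φ (c.1 : N) (f ⟨0, by norm_num⟩) = f ⟨0, by norm_num⟩ := fun c => by
        rw [← hidx, show idx c.1 ⟨0, by norm_num⟩ = ⟨0, by norm_num⟩ from
          MulAction.mem_stabilizer_iff.1 c.2]
      refine Nat.card_le_card_of_injective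
        (fun c => ⟨⟨n⁻¹ * (c.1 : N) * n, ?_⟩, ?_⟩) ?_
      · rw [Rep.mem_fixPt, map_mul, map_mul, map_inv, Equiv.Perm.mul_apply, Equiv.Perm.mul_apply,
          hp1, hcfix c, ← hp1]
        simp
      · rw [MulAction.mem_stabilizer_iff, hsm]
        have hc := Subgroup.mem_centralizer_singleton_iff.1 c.1.2
        calc n⁻¹ * (c.1 : N) * n * (n⁻¹ * x * n) * (n⁻¹ * (c.1 : N) * n)⁻¹
            = n⁻¹ * ((c.1 : N) * x * (c.1 : N)⁻¹) * n := by group
          _ = n⁻¹ * x * n := by rw [hc, mul_inv_cancel_right]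
      · intro c d hcd
        have h := congrArg (fun z => (z.1 : N)) hcd
        simp only [mul_left_inj, mul_right_inj] at h
        exact Subtype.ext (Subtype.ext h)
    exact le_trans hstab h1500
  have hupper : Nat.card (Subgroup.centralizer {x}) ≤ 378000 := by
    have h := (MulAction.stabilizer (Subgroup.centralizer {x}) (⟨0, by norm_num⟩ : Fin 252)).card_mul_index
    rw [MulAction.index_stabilizer] at h
    have h252 : (MulAction.orbit (Subgroup.centralizer {x}) (⟨0, by norm_num⟩ : Fin 252)).ncard ≤ 252 :=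
      le_trans (Set.ncard_le_ncard (Set.subset_univ _) Set.finite_univ)
        (le_of_eq (by rw [Set.ncard_univ, Nat.card_eq_fintype_card, Fintype.card_fin]))
    rw [← h]
    exact le_trans (Nat.mul_le_mul hst1500 h252) (by norm_num)
  have hMle := Subgroup.card_le_card_group M
  have hMC : M = ⊤ := by
    refine Subgroup.eq_top_of_le_card M ?_
    nlinarith
  have hCcard : Nat.card (Subgroup.centralizer {x}) = 378000 := by nlinarith
  have hrange : Nat.card ψM.range = 126000 := by nlinarith
  have hkercard : Nat.card ψM.ker = 3 := by nlinarith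
  let ι : Subgroup.centralizer {x} →* M :=
    (MonoidHom.id _).codRestrict M fun c => hMC ▸ Subgroup.mem_top c
  let φ := ψM.comp ι
  have hφr : φ.range = ψM.range := by
    ext g
    exact ⟨fun ⟨c, hc⟩ => ⟨ι c, hc⟩, fun ⟨c, hc⟩ => ⟨c, hc⟩⟩
  -- transitivity on the fixed points
  have horb : ∀ k : Fin 252, ∃ c : Subgroup.centralizer {x}, idx c ⟨0, by norm_num⟩ = k := by
    -- counting: the stabiliser of the first pair moves the two points as needed
    have h := (MulAction.stabilizer (Subgroup.centralizer {x}) (⟨0, by norm_num⟩ : Fin 252)).card_mul_index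
    rw [MulAction.index_stabilizer, hCcard] at h
    have hfull : MulAction.orbit (Subgroup.centralizer {x}) (⟨0, by norm_num⟩ : Fin 252) = Set.univ := by
      refine Set.eq_of_subset_of_ncard_le (Set.subset_univ _) ?_ Set.finite_univ
      rw [Set.ncard_univ, Nat.card_eq_fintype_card, Fintype.card_fin]
      by_contra hlt
      push Not at hlt
      nlinarith
    intro k
    obtain ⟨c, hc⟩ := (hfull ▸ Set.mem_univ k : k ∈ MulAction.orbit _ _)
    exact ⟨c, hc⟩
  have hn1f : R.φ (evw gen L.n1) p0 = f ⟨0, by norm_num⟩ :=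
    Fin.ext (by rw [R.evw_apply]; exact hn1)
  refine ⟨hord, hCcard, fun p hp => ?_, ?_, φ, ?_, ?_, ?_, ?_⟩
  · obtain ⟨k, rfl⟩ := hfsurj p hp
    obtain ⟨c, hc⟩ := horb k
    exact ⟨c, by rw [hn1f, ← hidx, hc]⟩
  · have heq : Subgroup.comap (Subgroup.centralizer {x}).subtype
        (R.fixPt (R.φ (evw gen L.n1) p0)) =
        MulAction.stabilizer (Subgroup.centralizer {x}) (⟨0, by norm_num⟩ : Fin 252) := by
      ext c
      rw [Subgroup.mem_comap, Rep.mem_fixPt, MulAction.mem_stabilizer_iff, hn1f]
      show R.φ (c : N) _ = _ ↔ idx c _ = _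
      rw [← hidx]
      exact hfinj.eq_iff
    have hu : MulAction.orbit (Subgroup.centralizer {x}) (⟨0, by norm_num⟩ : Fin 252) = Set.univ :=
      Set.eq_univ_of_forall fun k => by obtain ⟨c, hc⟩ := horb k; exact ⟨c, hc⟩
    rw [heq, MulAction.index_stabilizer, hu,
      Set.ncard_univ, Nat.card_eq_fintype_card, Fintype.card_fin]
  · have hz : Subgroup.zpowers (⟨xc, hxcM⟩ : M) = ψM.ker := by
      refine Subgroup.eq_of_le_of_card_ge hxker ?_
      rw [hkercard, Nat.card_zpowers, ← Subgroup.orderOf_coe]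
      exact le_of_eq hordc.symm
    ext c
    rw [MonoidHom.mem_ker, Subgroup.mem_subgroupOf]
    show ψM (ι c) = 1 ↔ _
    rw [← MonoidHom.mem_ker, ← hz, Subgroup.mem_zpowers_iff, Subgroup.mem_zpowers_iff]
    constructor
    · rintro ⟨k, hk⟩
      exact ⟨k, by simpa [xc, ι] using congrArg (fun z : M => ((z : Subgroup.centralizer {x}) : N)) hk⟩
    · rintro ⟨k, hk⟩
      exact ⟨k, Subtype.ext (Subtype.ext (by simpa [xc, ι] using hk))⟩
  · have hcomm : ∀ w : List ℕ × List ℕ × List ℕ × List ℕ,
        (∀ v ∈ [w.1, w.2.1, w.2.2.1, w.2.2.2], ∀ l ∈ v, l < 4) →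
        (∀ l ∈ commW2 w, l < 4) ∧ ψM (evw gm (commW2 w)) ∈ ⁅ψM.range, ψM.range⁆ := by
      intro w hw
      have hinvm : ∀ v : List ℕ, (∀ l ∈ v, l < 4) →
          evw gm (invw (fun l => (l + 2) % 4) v) = (evw gm v)⁻¹ := by
        intro v
        induction v with
        | nil => intro _; simp [invw]
        | cons l v ih =>
          intro hv
          simp only [List.mem_cons, forall_eq_or_imp] at hv
          simp only [invw, List.map_cons, List.reverse_cons, H77.HN.evw_append,
            H77.HN.evw_cons, H77.HN.evw_nil, one_mul, mul_inv_rev] at ih ⊢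
          rw [ih hv.2, hgmi l hv.1]
      simp only [List.mem_cons, List.not_mem_nil, or_false, forall_eq_or_imp, forall_eq] at hw
      obtain ⟨hwa, hwb, hwc, hwd⟩ := hw
      have hcw : ∀ a b : List ℕ, (∀ l ∈ a, l < 4) → (∀ l ∈ b, l < 4) →
          (∀ l ∈ commW a b, l < 4) ∧ ψM (evw gm (commW a b)) ∈ ⁅ψM.range, ψM.range⁆ := by
        intro a b ha hb
        refine ⟨?_, ?_⟩
        · intro l hl
          simp only [commW, invw, List.mem_append, List.mem_reverse, List.mem_map] at hl
          rcases hl with ((⟨u, -, rfl⟩ | ⟨u, -, rfl⟩) | h) | h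
          · exact Nat.mod_lt _ (by norm_num)
          · exact Nat.mod_lt _ (by norm_num)
          · exact hb l h
          · exact ha l h
        · simp only [commW, H77.HN.evw_append, hinvm a ha, hinvm b hb, map_mul, map_inv]
          rw [← mul_assoc, ← mul_assoc]
          exact Subgroup.commutator_mem_commutator ⟨evw gm a, rfl⟩ ⟨evw gm b, rfl⟩
      refine ⟨?_, ?_⟩
      · intro l hl
        rcases List.mem_append.1 hl with h | h
        · exact (hcw _ _ hwa hwb).1 l h
        · exact (hcw _ _ hwc hwd).1 l h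
      · rw [commW2, H77.HN.evw_append, map_mul]
        exact Subgroup.mul_mem _ (hcw _ _ hwc hwd).2 (hcw _ _ hwa hwb).2
    have hU := hcomm L.CU (fun v hv => hPlet v (by simp only [List.mem_cons] at hv ⊢; tauto))
    have hV := hcomm L.CV (fun v hv => hPlet v (by simp only [List.mem_cons] at hv ⊢; tauto))
    have e0 : ψM (evw gm (commW2 L.CU)) = ψM (gm 0) := Equiv.ext fun j => Fin.ext (by
      rw [hrunψ _ hU.1, hψ 0 (by norm_num)]; exact (hP j j.2).1)
    have e1 : ψM (evw gm (commW2 L.CV)) = ψM (gm 1) := Equiv.ext fun j => Fin.ext (by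
      rw [hrunψ _ hV.1, hψ 1 (by norm_num)]; exact (hP j j.2).2)
    have hgm : ∀ (l : ℕ) (hl : l < 4), gm l = ⟨lc l, hlM l hl⟩ := fun l hl => dif_pos hl
    have htop : (⊤ : Subgroup M) ≤ ⁅ψM.range, ψM.range⁆.comap ψM := by
      have h : Subgroup.closure ((Subtype.val : M → Subgroup.centralizer {x}) ⁻¹'
          {lc 0, lc 1, xc}) = ⊤ :=
        Subgroup.closure_closure_coe_preimage (k := ({lc 0, lc 1, xc} : Set _))
      rw [← h, Subgroup.closure_le]
      intro a ha
      simp only [Set.mem_preimage, Set.mem_insert_iff, Set.mem_singleton_iff] at ha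
      show ψM a ∈ ⁅ψM.range, ψM.range⁆
      rcases ha with ha | ha | ha
      · rw [show a = gm 0 from Subtype.ext (ha.trans (by rw [hgm 0 (by norm_num)])), ← e0]
        exact hU.2
      · rw [show a = gm 1 from Subtype.ext (ha.trans (by rw [hgm 1 (by norm_num)])), ← e1]
        exact hV.2
      · rw [show a = ⟨xc, hxcM⟩ from Subtype.ext ha,
          MonoidHom.mem_ker.1 (hxker (Subgroup.mem_zpowers _))]
        exact one_mem _
    have hle : ψM.range ≤ ⁅ψM.range, ψM.range⁆ := by
      rintro g ⟨c, rfl⟩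
      exact htop (Subgroup.mem_top c)
    rw [hφr]
    refine Subgroup.map_injective ψM.range.subtype_injective ?_
    rw [commutator_def, Subgroup.map_commutator, ← MonoidHom.range_eq_map, Subgroup.range_subtype]
    refine le_antisymm (Subgroup.commutator_le_self _) hle
  · rw [hφr]
    exact isPreprimitive_of_two (0 : Fin 126) 1 ho1 ho2
  · rw [hφr]
    refine isSolvable_of_card_1000 ?_
    have h := (MulAction.stabilizer ψM.range (0 : Fin 126)).card_mul_index
    rw [MulAction.index_stabilizer, hrange, show MulAction.orbit ψM.range (0 : Fin 126) = Set.univ from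
      Set.eq_univ_of_forall fun q => by obtain ⟨g, hg⟩ := ho1 q; exact ⟨g, hg⟩,
      Set.ncard_univ, Nat.card_eq_fintype_card (α := Fin 126), Fintype.card_fin] at h
    omega

end H11.Ly3A
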