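import Cfsg.Agent.H97.Ly.Upper
import Cfsg.Agent.H11.Ly3A.Exact

/-!
The five double cosets of the subgroup on a, b, c, d when its index is 8835156: explicit
representatives, stabilisers and their orders.
-/

set_option autoImplicit false
set_option maxRecDepth 100000

namespace H11.Ly3A

open H77.HN (evw run)
open H97.Ly (cert cv letter abcd NModel)

/-- edges of the tree: the edge creating an orbit -/
def treeEdge : ℕ → ℕ
  | 1 => 0
  | 2 => 29
  | 3 => 34
  | _ => 72

variable {N : Type} [Group N] (M : NModel N)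

/-- the step along the edge creating an orbit -/
noncomputable def gStep (i : ℕ) : Cfsg.Spor.Ly :=
  (M.ι (evw M.gen (H97.Ly.Data.mwTab.getD (treeEdge i) [])))⁻¹ * cv 0 *
    M.ι (evw M.gen (H97.Ly.Data.nwTab.getD (treeEdge i) []))

/-- representatives of the double cosets -/
noncomputable def gE : ℕ → Cfsg.Spor.Ly
  | 0 => 1
  | 1 => gStep M 1
  | n + 2 => gStep M (n + 2) * gStep M 1

theorem tree_facts : H97.Ly.Data.srcTab.getD 0 0 = 0 ∧ H97.Ly.Data.srcTab.getD 29 0 = 1 ∧
    H97.Ly.Data.srcTab.getD 34 0 = 1 ∧ H97.Ly.Data.srcTab.getD 72 0 = 1 ∧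
    H97.Ly.Data.treeList = [72, 34, 29, 0] := by decide

theorem q_eq (i : Fin 5) : M.amalgam.q H97.Ly.Data.treeList i = QuotientGroup.mk (gE M i) := by
  obtain ⟨e0, e29, e34, e72, htl⟩ := tree_facts
  rw [htl]
  have hsrc : ∀ k, M.setting.D.src k = H97.Ly.Data.srcTab.getD k 0 := fun _ => rfl
  have hnw : ∀ k, M.setting.D.nw k = H97.Ly.Data.nwTab.getD k [] := fun _ => rfl
  have hmw : ∀ k, M.setting.D.mw k = H97.Ly.Data.mwTab.getD k [] := fun _ => rfl
  have he : ∀ w, M.setting.e w = evw M.gen w := fun _ => rfl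
  have hgt : M.amalgam.gt = cv 0 := rfl
  have hι' : M.amalgam.ι = M.ι := rfl
  simp only [H23.DC.Amalgam.q, H23.DC.Amalgam.qs, hsrc, hnw, hmw, he, hgt, hι', e0, e29, e34, e72,
    List.cons_append, List.nil_append, List.getD_cons_zero, List.getD_cons_succ,
    MulAction.Quotient.smul_mk, smul_eq_mul, mul_one]
  fin_cases i <;> rfl

theorem sum_stab (hidx : abcd.index = 8835156) :
    M.amalgam.ι.range.index = ∑ i ∈ Finset.range cert.r, (M.setting.stab i).index := by
  haveI := M.finite
  refine le_antisymm (M.amalgam.index_le M.valid H97.Ly.done_ok (show 0 < 5 by norm_num)).2 ?_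
  have hr : M.amalgam.ι.range = abcd := M.range_eq
  rw [hr, hidx]
  exact M.sum_index_le

theorem orbit_cover (y : Cfsg.Spor.Ly) : ∃ i : Fin 5, ∃ n ∈ M.ι.range, ∃ m ∈ M.ι.range,
    y = n * gE M i * m := by
  haveI := M.finite
  obtain ⟨i, n, hn⟩ := exists_orbit M.valid H97.Ly.done_ok (show 0 < 5 by norm_num)
    (QuotientGroup.mk y : M.amalgam.Cos)
  refine ⟨i, M.ι n, ⟨n, rfl⟩, (M.ι n * gE M i)⁻¹ * y, ?_, by group⟩
  have hn' : M.amalgam.ι n • (QuotientGroup.mk (gE M i) : M.amalgam.Cos) = QuotientGroup.mk y := by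
    rw [← q_eq M (i : Fin 5)]
    exact hn
  rw [MulAction.Quotient.smul_mk, smul_eq_mul, QuotientGroup.eq] at hn'
  exact hn'

theorem orbit_disj (hidx : abcd.index = 8835156) (i j : Fin 5) (n m : Cfsg.Spor.Ly)
    (hn : n ∈ M.ι.range) (hm : m ∈ M.ι.range) (h : gE M i = n * gE M j * m) : i = j := by
  haveI := M.finite
  obtain ⟨a, rfl⟩ := hn
  refine (orbit_inj M.valid H97.Ly.done_ok (show 0 < 5 by norm_num) (sum_stab M hidx)
    (i := i) (j := j) (n := 1) (m := a) ?_).1
  rw [map_one, one_smul, q_eq, q_eq, MulAction.Quotient.smul_mk, smul_eq_mul, QuotientGroup.eq]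
  have e : (gE M i)⁻¹ * (M.ι a * gE M j) = m⁻¹ := by rw [h]; group
  show (gE M i)⁻¹ * (M.amalgam.ι a * gE M j) ∈ M.amalgam.ι.range
  rw [show M.amalgam.ι = M.ι from rfl, e]
  exact inv_mem hm

/-- the stabiliser of a base coset -/
theorem stab_iff (hidx : abcd.index = 8835156) (i : Fin 5) (y : N) :
    (gE M i)⁻¹ * M.ι y * gE M i ∈ M.ι.range ↔ y ∈ M.setting.stab i := by
  haveI := M.finite
  rw [← fix_iff M.valid H97.Ly.done_ok (show 0 < 5 by norm_num) (sum_stab M hidx) i y, q_eq,
    MulAction.Quotient.smul_mk, smul_eq_mul, QuotientGroup.eq]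
  show _ ↔ (M.ι y * gE M i)⁻¹ * gE M i ∈ M.ι.range
  conv_rhs => rw [← inv_mem_iff]
  simp [mul_assoc]

/-- the orders of the four stabilisers -/
theorem stab_card (hidx : abcd.index = 8835156) :
    Nat.card (M.setting.stab 1) = 300000 ∧ Nat.card (M.setting.stab 2) = 2880 ∧
      Nat.card (M.setting.stab 3) = 1008 ∧ Nat.card (M.setting.stab 4) = 6048 := by
  haveI := M.finite
  have hsum : ∑ i ∈ Finset.range 5, (M.setting.stab i).index = 8835156 := by
    have h := sum_stab M hidx
    rw [show M.amalgam.ι.range = abcd from M.range_eq, hidx] at h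
    exact h.symm
  simp only [Finset.sum_range_succ, Finset.sum_range_zero, M.stab_zero, Subgroup.index_top] at hsum
  have h1 := M.stab_index H97.Ly.levels1_ok
  have h2 := M.stab_index H97.Ly.levels2_ok
  have h3 := M.stab_index H97.Ly.levels3_ok
  have h4 := M.stab_index H97.Ly.levels4_ok
  have c1 := (M.setting.stab 1).index_mul_card
  have c2 := (M.setting.stab 2).index_mul_card
  have c3 := (M.setting.stab 3).index_mul_card
  have c4 := (M.setting.stab 4).index_mul_card
  rw [M.card] at c1 c2 c3 c4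
  have e1 : (M.setting.stab 1).index = 19530 := by omega
  have e2 : (M.setting.stab 2).index = 2034375 := by omega
  have e3 : (M.setting.stab 3).index = 5812500 := by omega
  have e4 : (M.setting.stab 4).index = 968750 := by omega
  rw [e1] at c1
  rw [e2] at c2
  rw [e3] at c3
  rw [e4] at c4
  exact ⟨by omega, by omega, by omega, by omega⟩

/-- the group acts transitively on the 19530 points -/
theorem card_fix_zero : Nat.card (M.rep.fixPt ⟨0, by norm_num⟩) = 300000 := by
  haveI := M.finite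
  letI : MulAction N (Fin 19530) := MulAction.compHom _ M.rep.φ
  have hroot : ∀ k < H97.Ly.Data.numEdges, H97.Ly.Data.srcTab.getD k 0 = 0 →
      H97.Ly.Data.rootTab.getD k 0 = 0 := by decide +kernel
  have horb : MulAction.orbit N (⟨0, by norm_num⟩ : Fin 19530) = Set.univ := by
    refine Set.eq_univ_of_forall fun c => ?_
    obtain ⟨hk, hsrc, s, -, p, hp, hps⟩ :=
      M.setting.tree_reach (i := 0) (show 0 < 5 by norm_num) _ (c : Fin 19530) rfl
    have hp0 : p = (⟨0, show 0 < 19530 by norm_num⟩ : Fin 19530) :=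
      Fin.ext (hp.trans (hroot _ hk hsrc))
    refine ⟨s, ?_⟩
    rw [hp0] at hps
    exact hps
  have hst : MulAction.stabilizer N (⟨0, by norm_num⟩ : Fin 19530) =
      M.rep.fixPt ⟨0, by norm_num⟩ := rfl
  have h := (MulAction.stabilizer N (⟨0, by norm_num⟩ : Fin 19530)).card_mul_index
  rw [MulAction.index_stabilizer, horb, Set.ncard_univ, M.card, hst,
    Nat.card_eq_fintype_card (α := Fin 19530), Fintype.card_fin] at h
  omega

end H11.Ly3A
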