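import Cfsg.Agent.H68.Ly.RepHom
import Cfsg.Agent.H97.Ly.LyRel
import Cfsg.Agent.H11.Ly3A.Data.RepChecks

/-!
Values of coded words of the presented Lyons group in the 111-dimensional representation.
-/

set_option autoImplicit false
set_option maxRecDepth 100000

namespace H11.Ly3A

open H68.Ly (rep W W_invWord invWord genWord genWord_lt invWord_lt W_redWord tab tab_ok toM rows rows_eq
  isOneR isOneR_spec coe_U img redWord)
open H77.HN (evw invw)
open H97.Ly (letter basicFree pres cv codeFree)
open Data (toTab toTab1 valTab)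

theorem xor_one_ge {l : ℕ} (h : 10 ≤ l) : 10 ≤ l ^^^ 1 := by
  have h1 : (l ^^^ 1) / 2 = l / 2 := by
    rw [Nat.xor_div_two, show (1 : ℕ) / 2 = 0 from rfl, Nat.xor_zero]
  omega

theorem toTab1_lt (l : ℕ) : ∀ x ∈ toTab1 l, x < 10 := by
  intro x hx
  match l with
  | 0 | 1 | 2 | 3 | 4 | 5 | 6 | 7 => simp [toTab1] at hx; omega
  | 8 =>
    have h : x ∈ genWord .e := hx
    exact genWord_lt _ x h
  | 9 =>
    have h : x ∈ invWord (genWord .e) := hx
    exact invWord_lt (genWord_lt _) x h
  | n + 10 => simp [toTab1] at hx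

theorem toTab_lt (w : List ℕ) : ∀ x ∈ toTab w, x < 10 := by
  intro x hx
  obtain ⟨l, -, hl⟩ := List.mem_flatMap.1 hx
  exact toTab1_lt l x hl

theorem valTab_lt (w : List ℕ) : ∀ x ∈ valTab w, x < 10 := toTab_lt _

theorem W_append (u v : List ℕ) : W (u ++ v) = W u * W v := by simp [W]

theorem rep_gen (g : Cfsg.Spor.Ly.Gen) : rep (pres (FreeGroup.of g)) = W (genWord g) :=
  PresentedGroup.toGroup.of _

theorem rep_basic (l : ℕ) : rep (pres (basicFree l)) = W (toTab1 l) := by
  match l with
  | 0 => exact rep_gen _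
  | 1 =>
    show rep (pres (FreeGroup.of _)⁻¹) = W (invWord (genWord .a))
    rw [map_inv, map_inv, rep_gen, W_invWord (genWord_lt _)]
  | 2 => exact rep_gen _
  | 3 =>
    show rep (pres (FreeGroup.of _)⁻¹) = W (invWord (genWord .b))
    rw [map_inv, map_inv, rep_gen, W_invWord (genWord_lt _)]
  | 4 => exact rep_gen _
  | 5 =>
    show rep (pres (FreeGroup.of _)⁻¹) = W (invWord (genWord .c))
    rw [map_inv, map_inv, rep_gen, W_invWord (genWord_lt _)]
  | 6 => exact rep_gen _
  | 7 =>
    show rep (pres (FreeGroup.of _)⁻¹) = W (invWord (genWord .d))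
    rw [map_inv, map_inv, rep_gen, W_invWord (genWord_lt _)]
  | 8 => exact rep_gen _
  | 9 =>
    show rep (pres (FreeGroup.of _)⁻¹) = W (invWord (genWord .e))
    rw [map_inv, map_inv, rep_gen, W_invWord (genWord_lt _)]
  | n + 10 => simp [basicFree, toTab1, W]

/-- the value of a word is the inverse of its left-to-right product -/
theorem rep_evw (w : List ℕ) : rep (evw letter w) = (W (toTab w))⁻¹ := by
  induction w with
  | nil => simp [toTab, W]
  | cons l w ih =>
    rw [H77.HN.evw_cons, map_mul, ih]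
    simp only [toTab, List.flatMap_cons]
    rw [W_append, mul_inv_rev]
    congr 1
    rw [letter, map_inv, rep_basic]

theorem letter_xor (l : ℕ) : letter (l ^^^ 1) = (letter l)⁻¹ := by
  rcases Nat.lt_or_ge l 10 with h | h
  · interval_cases l <;> simp [letter, basicFree]
  · have h2 : ∀ n ≥ 10, letter n = 1 := fun n hn => by
      obtain ⟨m, rfl⟩ : ∃ m, n = m + 10 := ⟨n - 10, by omega⟩
      simp [letter, basicFree]
    rw [h2 l h, h2 _ (xor_one_ge h), inv_one]

/-- the value of a word -/
theorem rep_evw_val (w : List ℕ) : rep (evw letter w) = W (valTab w) := by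
  have h := rep_evw (invw (fun l => l ^^^ 1) w)
  rw [H77.HN.evw_invw letter_xor, map_inv] at h
  exact inv_injective h

theorem rep_cv0 : rep (cv 0) = W [9] := by
  show rep (pres (FreeGroup.of _))⁻¹ = W (invWord (genWord .z))
  rw [map_inv, rep_gen, W_invWord (genWord_lt _)]

theorem W_coe {w : List ℕ} (hw : ∀ x ∈ w, x < 10) :
    ((W w : GL (Fin 111) (ZMod 5)) : H68.Ly.Mat) = ((w.map tab).map toM).prod := by
  induction w with
  | nil => simp [W]
  | cons k w ih =>
    simp only [List.mem_cons, forall_eq_or_imp] at hw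
    rw [List.map_cons, List.map_cons, List.prod_cons, ← ih hw.2, ← coe_U hw.1]
    simp [W]

theorem tabs_ok {w : List ℕ} (hw : ∀ x ∈ w, x < 10) : ∀ S ∈ w.map tab, H68.Ly.tabOK S = true := by
  intro S hS
  obtain ⟨k, hk, rfl⟩ := List.mem_map.1 hS
  exact tab_ok k (hw k hk)

theorem map_rows (w : List ℕ) : w.map rows = (w.map tab).map H68.Ly.packTab := by
  rw [List.map_map]
  exact List.map_congr_left fun k _ => rows_eq k

/-- a checked word is trivial -/
theorem W_eq_one {w : List ℕ} (hw : ∀ x ∈ w, x < 10) (h : isOneR ((redWord w).map rows) = true) :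
    W w = 1 := by
  obtain ⟨h1, h2⟩ := W_redWord hw
  rw [map_rows] at h
  refine h1 ▸ Units.ext ?_
  rw [W_coe h2, Units.val_one]
  exact isOneR_spec (tabs_ok h2) h

/-- a checked trace -/
theorem trace_W {w : List ℕ} (hw : ∀ x ∈ w, x < 10) {r : ℕ}
    (h : traceIs r ((redWord w).map rows) = true) :
    Matrix.trace ((W w : GL (Fin 111) (ZMod 5)) : H68.Ly.Mat) = (r : ZMod 5) := by
  obtain ⟨h1, h2⟩ := W_redWord hw
  rw [map_rows] at h
  rw [← h1, W_coe h2]
  exact traceIs_spec (tabs_ok h2) h

end H11.Ly3A
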