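import Cfsg.Prelude.Def_Sporadic
import Cfsg.Agent.H11.Ly3A.Centralizer
import Cfsg.Agent.H11.Ly3A.Orbits
import Cfsg.Agent.H11.Ly3A.RepValues
import Cfsg.Agent.H11.Ly3A.Data.Checks10

/-!
The centraliser of an element of class 3A in the presented Lyons group, over a model of the subgroup
on a, b, c, d of index 8835156.
-/

set_option autoImplicit false
set_option maxRecDepth 100000
set_option maxHeartbeats 2000000

namespace H11.Ly3A

open H77.HN (evw invw agree run)
open H97.Ly (cert cv letter abcd NModel)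
open Data (loc small2 small3 small4 nWord kWord qTab hTab toTab valTab commTab)
open H68.Ly (rep W invWord)

/-- the order of the classes -/
def perm5 : Fin 5 → Fin 5 := ![0, 1, 3, 2, 4]

variable {N : Type} [Group N] (M : NModel N)

/-- the element in N -/
noncomputable def x0 : N := evw M.gen10 loc.X

theorem gen10_inv (l : ℕ) : M.gen10 (l ^^^ 1) = (M.gen10 l)⁻¹ := by
  rcases Nat.lt_or_ge l 10 with hl | hl
  · have h := M.rep.evw_eq_of_agree M.base
      (List.all_eq_true.1 Data.undo10 l (List.mem_range.2 hl))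
    simp only [H77.HN.evw_cons, H77.HN.evw_nil, one_mul] at h
    exact eq_inv_of_mul_eq_one_left h
  · rw [M.gen_big l hl, M.gen_big _ (xor_one_ge hl), inv_one]

theorem gen_basic {w : List ℕ} (hw : ∀ l ∈ w, l < 10) : evw M.gen w = evw M.gen10 w := by
  induction w with
  | nil => rfl
  | cons l w ih =>
    simp only [List.mem_cons, forall_eq_or_imp] at hw
    rw [H77.HN.evw_cons, H77.HN.evw_cons, ih hw.2, M.gen_low hw.1]

theorem rep_ι (w : List ℕ) : rep (M.ι (evw M.gen10 w)) = W (valTab w) := by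
  rw [← H77.HN.evw_map, show (fun l => M.ι (M.gen10 l)) = letter from funext M.ι_letter, rep_evw_val]

theorem rep_ι_inv (w : List ℕ) : rep (M.ι (evw M.gen10 w))⁻¹ = W (toTab w) := by
  rw [map_inv, ← H77.HN.evw_map, show (fun l => M.ι (M.gen10 l)) = letter from funext M.ι_letter,
    rep_evw, inv_inv]

/-- the witnesses -/
noncomputable def hE : ℕ → Cfsg.Spor.Ly
  | 0 => 1
  | i + 1 => M.ι (evw M.gen10 (nWord (i + 1))) * gE M (i + 1) *
      (M.ι (evw M.gen10 (kWord (i + 1))))⁻¹

theorem rep_gE : ∀ i : Fin 4, rep (gE M (i.val + 1)) = W (qTab (i.val + 1)) := by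
  have hlow : ∀ k ∈ [0, 29, 34, 72], (∀ l ∈ H97.Ly.Data.mwTab.getD k [], l < 10) ∧
      ∀ l ∈ H97.Ly.Data.nwTab.getD k [], l < 10 := by decide +kernel
  have hstep : ∀ i, rep (gStep M i) = W (toTab (H97.Ly.Data.mwTab.getD (treeEdge i) [])) * W [9] *
      W (valTab (H97.Ly.Data.nwTab.getD (treeEdge i) [])) := by
    intro i
    have hm : treeEdge i ∈ [0, 29, 34, 72] := by unfold treeEdge; split <;> simp
    rw [gStep, gen_basic M (hlow _ hm).1, gen_basic M (hlow _ hm).2, map_mul, map_mul,
      rep_ι_inv, rep_cv0, rep_ι]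
  intro i
  fin_cases i <;>
    simp only [gE, map_mul, hstep, ← W_append] <;>
    exact congrArg W (by decide +kernel)

variable (hLy : Cfsg.IsLy Cfsg.Spor.Ly) (hι : Function.Injective M.ι)
  (hidx : abcd.index = 8835156)

include hLy in
theorem rep_injective : Function.Injective rep := by
  haveI := hLy.1
  rw [← MonoidHom.ker_eq_bot_iff]
  refine (rep.normal_ker.eq_bot_or_eq_top).resolve_right fun h => H68.Ly.rep_a_ne_one ?_
  exact MonoidHom.mem_ker.1 (h ▸ Subgroup.mem_top _)

theorem hTab_lt (i : ℕ) : ∀ x ∈ hTab i, x < 10 := by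
  intro x hx
  simp only [hTab, List.mem_append] at hx
  rcases hx with (h | h) | h
  · exact valTab_lt _ x h
  · match i with
    | 1 | 2 | 3 | 4 =>
      simp only [qTab, List.mem_append, List.mem_singleton] at h
      rcases h with h | h
      all_goals first
        | exact toTab_lt _ x h
        | omega
        | (rcases h with h | h) <;> first
          | exact toTab_lt _ x h
          | omega
          | (rcases h with h | h) <;> first
            | exact toTab_lt _ x h
            | omega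
            | (rcases h with h | h) <;> first
              | exact toTab_lt _ x h
              | omega
              | (rcases h with h | h) <;> first
                | exact toTab_lt _ x h
                | omega
    | 0 => simp [qTab] at h
    | n + 5 => simp [qTab] at h
  · exact toTab_lt _ x h

include hLy in
theorem hE_comm (i : Fin 5) : hE M i ∈ Subgroup.centralizer ({M.ι (x0 M)} : Set Cfsg.Spor.Ly) := by
  rw [Subgroup.mem_centralizer_singleton_iff]
  obtain ⟨i, hi⟩ := i
  rcases i with _ | i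
  · simp [hE]
  set X := M.ι (x0 M)
  suffices hE M (i + 1) * X⁻¹ * (hE M (i + 1))⁻¹ * X = 1 by
    have h2 : hE M (i + 1) * X⁻¹ = X⁻¹ * hE M (i + 1) := by
      calc hE M (i + 1) * X⁻¹ = hE M (i + 1) * X⁻¹ * (hE M (i + 1))⁻¹ * X * (X⁻¹ * hE M (i + 1)) := by
            group
        _ = X⁻¹ * hE M (i + 1) := by rw [this, one_mul]
    calc hE M (i + 1) * X = X * (X⁻¹ * hE M (i + 1)) * X := by group
      _ = X * (hE M (i + 1) * X⁻¹) * X := by rw [h2]
      _ = X * hE M (i + 1) := by group
  refine rep_injective hLy ?_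
  have hh : rep (hE M (i + 1)) = W (hTab (i + 1)) := by
    rw [hE, map_mul, map_mul, rep_ι, rep_ι_inv, rep_gE M ⟨i, by omega⟩, hTab, W_append, W_append]
  have hX : rep X⁻¹ = W (toTab loc.X) := rep_ι_inv M loc.X
  have hX' : rep X = (W (toTab loc.X))⁻¹ := by rw [← hX, map_inv, inv_inv]
  rw [map_mul, map_mul, map_mul, map_inv rep (hE M (i + 1)), hh, hX, hX', map_one,
    ← H68.Ly.W_invWord (hTab_lt _), ← H68.Ly.W_invWord (toTab_lt _), ← W_append, ← W_append,
    ← W_append]
  refine W_eq_one ?_ ?_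
  · intro x hx
    simp only [List.mem_append] at hx
    rcases hx with ((h | h) | h) | h
    · exact hTab_lt _ x h
    · exact toTab_lt _ x h
    · exact H68.Ly.invWord_lt (hTab_lt _) x h
    · exact H68.Ly.invWord_lt (toTab_lt _) x h
  · have hi' : i < 4 := by omega
    interval_cases i
    · exact Data.comm1
    · exact Data.comm2
    · exact Data.comm3
    · exact Data.comm4

/-- the invariant of a class -/
noncomputable def chi (z : N) : ZMod 5 :=
  Matrix.trace ((rep (M.ι z) : GL (Fin 111) (ZMod 5)) : H68.Ly.Mat)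

theorem chi_conj (a z : N) : chi M (a⁻¹ * z * a) = chi M z := by
  simp only [chi, map_mul, map_inv, Units.val_mul]
  rw [Matrix.trace_mul_cycle, Units.mul_inv, one_mul]

theorem chi_evw {w : List ℕ} {r : ℕ} (h : traceIs r ((Data.traceTab w).map H68.Ly.rows) = true) :
    chi M (evw M.gen10 w) = (r : ZMod 5) := by
  rw [chi, rep_ι]
  exact trace_W (valTab_lt w) h

theorem stab_eq (i : ℕ) (gs : List (List ℕ))
    (hg : gs = (cert.sg i).map H97.Ly.wordOf ++
      ((cert.sg i).map H97.Ly.wordOf).map (invw fun l => l ^^^ 1)) :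
    M.setting.stab i = Subgroup.closure {g | g ∈ gs.map (evw M.gen10)} := by
  refine le_antisymm ((Subgroup.closure_le _).2 ?_) ((Subgroup.closure_le _).2 ?_)
  · rintro _ ⟨l, hl, rfl⟩
    refine Subgroup.subset_closure (List.mem_map.2 ⟨H97.Ly.wordOf l, ?_, rfl⟩)
    rw [hg]
    exact List.mem_append_left _ (List.mem_map.2 ⟨l, hl, rfl⟩)
  · intro g hgm
    obtain ⟨w, hw, rfl⟩ := List.mem_map.1 hgm
    rw [hg, List.mem_append] at hw
    rcases hw with hw | hw
    · obtain ⟨l, hl, rfl⟩ := List.mem_map.1 hw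
      exact Subgroup.subset_closure ⟨l, hl, rfl⟩
    · obtain ⟨u, hu, rfl⟩ := List.mem_map.1 hw
      obtain ⟨l, hl, rfl⟩ := List.mem_map.1 hu
      rw [H77.HN.evw_invw (gen10_inv M)]
      exact inv_mem (Subgroup.subset_closure ⟨l, hl, rfl⟩)

theorem stab_one (hidx : abcd.index = 8835156) :
    M.setting.stab 1 = M.rep.fixPt ⟨0, by norm_num⟩ := by
  haveI := M.finite
  refine Subgroup.eq_of_le_of_card_ge ((Subgroup.closure_le _).2 ?_) ?_
  · rintro _ ⟨l, hl, rfl⟩
    refine Fin.ext ?_
    show (M.rep.φ (evw M.gen10 (H97.Ly.wordOf l)) _ : ℕ) = 0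
    rw [M.rep.evw_apply, ← H77.HN.runK_eq]
    exact Nat.eq_of_beq_eq_true (List.all_eq_true.1 Data.sg1_fix l hl)
  · rw [card_fix_zero M, (stab_card M hidx).1]

theorem coset_fix (g q : Cfsg.Spor.Ly) (h : g⁻¹ * q * g ∈ M.ι.range) :
    ((q * g : Cfsg.Spor.Ly) : Cfsg.Spor.Ly ⧸ M.ι.range) = (g : Cfsg.Spor.Ly ⧸ M.ι.range) := by
  rw [QuotientGroup.eq, ← inv_mem_iff]
  simpa [mul_assoc] using h

include hLy hι hidx in
theorem ly_centralizer : ∃ x : Cfsg.Spor.Ly, orderOf x = 3 ∧
    Nat.card (Subgroup.center (Subgroup.centralizer ({x} : Set Cfsg.Spor.Ly))) = 3 ∧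
    Cfsg.IsMcL ((Subgroup.centralizer ({x} : Set Cfsg.Spor.Ly)) ⧸
      Subgroup.center (Subgroup.centralizer ({x} : Set Cfsg.Spor.Ly))) := by
  haveI := M.finite
  haveI : Finite Cfsg.Spor.Ly := Nat.finite_of_card_ne_zero (by rw [hLy.2]; norm_num)
  have hloc := local_centralizer M.rep M.base (gen10_inv M) (card_fix_zero M) loc Data.loc_rel
    Data.loc_F Data.loc_complete Data.loc_img Data.loc_K Data.loc_orb Data.loc_perf
  set x := evw M.gen10 loc.X with hxdef
  obtain ⟨hord, hC0, htrans1, hidx1, φ, hker, hperf, hprim, hsolv⟩ := hloc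
  let R := M.ι.range
  let X := M.ι x
  have hXR : X ∈ R := ⟨x, rfl⟩
  -- the centraliser in the subgroup
  let toC : Subgroup.centralizer ({x} : Set N) →* cN R X :=
    { toFun := fun c => ⟨⟨M.ι c, coe_mem_centralizer.2 (by
          rw [← map_mul, ← map_mul]
          exact congrArg M.ι (Subgroup.mem_centralizer_singleton_iff.1 c.2))⟩, ⟨c, rfl⟩⟩
      map_one' := Subtype.ext (Subtype.ext (map_one M.ι))
      map_mul' := fun c d => Subtype.ext (Subtype.ext (map_mul M.ι _ _)) }
  have htoC : Function.Bijective toC := by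
    refine ⟨fun c d h => Subtype.ext (hι (congrArg
      (fun z : cN R X => ((z : Subgroup.centralizer ({X} : Set Cfsg.Spor.Ly)) : Cfsg.Spor.Ly)) h)), ?_⟩
    rintro ⟨⟨c, hc⟩, hcR⟩
    obtain ⟨a, ha⟩ := hcR
    replace ha : M.ι a = c := ha
    subst ha
    refine ⟨⟨a, Subgroup.mem_centralizer_singleton_iff.2 (hι ?_)⟩, rfl⟩
    rw [map_mul, map_mul]
    exact coe_mem_centralizer.1 hc
  let e : Subgroup.centralizer ({x} : Set N) ≃* cN R X := MulEquiv.ofBijective toC htoC
  -- small stabilisers
  have hχ2 : ∀ w ∈ small2.Z, chi M (evw M.gen10 w) ≠ chi M x := by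
    intro w hw
    rw [hxdef, chi_evw M Data.trace_x]
    simp only [small2, List.mem_cons, List.not_mem_nil, or_false] at hw
    rcases hw with rfl | rfl
    · exact ne_of_eq_of_ne (chi_evw M (r := 3) Data.trace2_0) (by decide)
    · exact ne_of_eq_of_ne (chi_evw M (r := 3) Data.trace2_1) (by decide)
  have hχ3 : ∀ w ∈ small3.Z, chi M (evw M.gen10 w) ≠ chi M x := by
    intro w hw
    rw [hxdef, chi_evw M Data.trace_x]
    simp only [small3, List.mem_cons, List.not_mem_nil, or_false] at hw
    rcases hw with rfl | rfl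
    · exact ne_of_eq_of_ne (chi_evw M (r := 3) Data.trace3_0) (by decide)
    · exact ne_of_eq_of_ne (chi_evw M (r := 3) Data.trace3_1) (by decide)
  have hχ4 : ∀ w ∈ small4.Z, chi M (evw M.gen10 w) ≠ chi M x := by
    intro w hw
    rw [hxdef, chi_evw M Data.trace_x]
    simp only [small4, List.mem_cons, List.not_mem_nil, or_false] at hw
    subst hw
    exact ne_of_eq_of_ne (chi_evw M (r := 3) Data.trace4_0) (by decide)
  obtain ⟨hc1, hc2, hc3, hc4⟩ := stab_card M hidx
  obtain ⟨hy2, ht2, hs2⟩ := small_stab M.rep M.base (gen10_inv M) small2 loc.X 2 20 hord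
    (M.setting.stab 2) (stab_eq M 2 _ Data.gens2) (by rw [hc2]; norm_num) (chi M) (chi_conj M) hχ2
    Data.small2_Q Data.small2_fate Data.small2_class
  obtain ⟨hy3, ht3, hs3⟩ := small_stab M.rep M.base (gen10_inv M) small3 loc.X 2 2 hord
    (M.setting.stab 3) (stab_eq M 3 _ Data.gens3) (by rw [hc3]; norm_num) (chi M) (chi_conj M) hχ3
    Data.small3_Q Data.small3_fate Data.small3_class
  obtain ⟨hy4, ht4, hs4⟩ := small_stab M.rep M.base (gen10_inv M) small4 loc.X 3 56 hord
    (M.setting.stab 4) (stab_eq M 4 _ Data.gens4) (by rw [hc4]; norm_num) (chi M) (chi_conj M) hχ4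
    Data.small4_Q Data.small4_fate Data.small4_class
  -- reduction of the fixed cosets of one double coset
  have hfixed : ∀ (i : Fin 5) (a : N), (M.ι a * gE M i)⁻¹ * X * (M.ι a * gE M i) ∈ R →
      a⁻¹ * x * a ∈ M.setting.stab i := by
    intro i a h
    rw [← stab_iff M hidx]
    have he : (gE M i)⁻¹ * M.ι (a⁻¹ * x * a) * gE M i =
        (M.ι a * gE M i)⁻¹ * X * (M.ι a * gE M i) := by
      simp only [map_mul, map_inv, X]; group
    rw [he]
    exact h
  let hC : ∀ i : Fin 5, Subgroup.centralizer ({X} : Set Cfsg.Spor.Ly) :=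
    fun i => ⟨hE M (perm5 i), hE_comm M hLy (perm5 i)⟩
  have hcoset : ∀ i : ℕ, ((hE M (i + 1) : Cfsg.Spor.Ly) : Cfsg.Spor.Ly ⧸ R) =
      ((M.ι (evw M.gen10 (nWord (i + 1))) * gE M (i + 1) : Cfsg.Spor.Ly) : Cfsg.Spor.Ly ⧸ R) := by
    intro i
    rw [QuotientGroup.eq, hE]
    simp only [mul_inv_rev, inv_inv, mul_assoc, inv_mul_cancel_left, inv_mul_cancel, mul_one]
    exact ⟨_, rfl⟩
  -- an element of the stabiliser moves the base coset of an orbit to itself
  have hmove : ∀ (i : Fin 5) (a : N) (s : N), s ∈ M.setting.stab i →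
      ((M.ι (a * s) * gE M i : Cfsg.Spor.Ly) : Cfsg.Spor.Ly ⧸ R) =
        ((M.ι a * gE M i : Cfsg.Spor.Ly) : Cfsg.Spor.Ly ⧸ R) := by
    intro i a s hs
    have h := (stab_iff M hidx i s).2 hs
    rw [QuotientGroup.eq, ← inv_mem_iff]
    have he : ((M.ι (a * s) * gE M i)⁻¹ * (M.ι a * gE M i))⁻¹ = (gE M i)⁻¹ * M.ι s * gE M i := by
      rw [map_mul]; group
    rw [he]
    exact h
  have htr : ∀ (i : Fin 5), i ≠ 0 → ∀ a : N, a⁻¹ * x * a ∈ M.setting.stab i →
      ∃ c ∈ Subgroup.centralizer ({x} : Set N), ∃ s ∈ M.setting.stab i,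
        a = c * evw M.gen10 (nWord i) * s := by
    have small : ∀ (i : Fin 5) (D : SmallData), evw M.gen10 D.Y = (evw M.gen10 D.n)⁻¹ * x * evw M.gen10 D.n →
        (∀ a : N, a⁻¹ * x * a ∈ M.setting.stab i →
          ∃ s ∈ M.setting.stab i, s * (a⁻¹ * x * a) * s⁻¹ = evw M.gen10 D.Y) →
        ∀ a : N, a⁻¹ * x * a ∈ M.setting.stab i →
          ∃ c ∈ Subgroup.centralizer ({x} : Set N), ∃ s ∈ M.setting.stab i,
            a = c * evw M.gen10 D.n * s := by
      intro i D hy ht a ha
      obtain ⟨s, hs, hse⟩ := ht a ha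
      refine ⟨a * s⁻¹ * (evw M.gen10 D.n)⁻¹, ?_, s, hs, by group⟩
      rw [hy] at hse
      rw [Subgroup.mem_centralizer_singleton_iff]
      calc a * s⁻¹ * (evw M.gen10 D.n)⁻¹ * x
          = a * s⁻¹ * ((evw M.gen10 D.n)⁻¹ * x * evw M.gen10 D.n) * (evw M.gen10 D.n)⁻¹ := by group
        _ = a * s⁻¹ * (s * (a⁻¹ * x * a) * s⁻¹) * (evw M.gen10 D.n)⁻¹ := by rw [hse]
        _ = x * (a * s⁻¹ * (evw M.gen10 D.n)⁻¹) := by group
    intro i hi a ha
    fin_cases i
    · exact absurd rfl hi
    · simp only at ha ⊢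
      rw [stab_one M hidx] at ha ⊢
      have hp : M.rep.φ x (M.rep.φ a ⟨0, by norm_num⟩) = M.rep.φ a ⟨0, by norm_num⟩ := by
        have h : M.rep.φ (a⁻¹ * x * a) ⟨0, by norm_num⟩ = ⟨0, by norm_num⟩ := ha
        rw [map_mul, map_mul, map_inv, Equiv.Perm.mul_apply, Equiv.Perm.mul_apply,
          Equiv.Perm.inv_eq_iff_eq] at h
        exact h
      obtain ⟨c, hc⟩ := htrans1 _ hp
      refine ⟨c, c.2, ((c : N) * evw M.gen10 (nWord 1))⁻¹ * a, ?_, by group⟩
      rw [H77.HN.Rep.mem_fixPt, map_mul, map_inv, Equiv.Perm.mul_apply, Equiv.Perm.inv_eq_iff_eq,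
        map_mul, Equiv.Perm.mul_apply]
      exact hc.symm
    · exact small 2 small2 hy2 ht2 a ha
    · exact small 3 small3 hy3 ht3 a ha
    · exact small 4 small4 hy4 ht4 a ha
  have hsize : ∀ i : Fin 5, i ≠ 0 → Nat.card (Subgroup.comap (Subgroup.centralizer ({x} : Set N)).subtype
      (M.setting.stab i |>.map (MulAut.conj (evw M.gen10 (nWord i))).toMonoidHom)) *
        (if i = 2 then 2625 else if i = 3 then 750 else if i = 4 then 3500 else 252) = 378000 := by
    intro i hi
    fin_cases i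
    · exact absurd rfl hi
    · have heq : (M.setting.stab 1).map (MulAut.conj (evw M.gen10 (nWord 1))).toMonoidHom =
          M.rep.fixPt (M.rep.φ (evw M.gen10 loc.n1) ⟨0, by norm_num⟩) := by
        rw [stab_one M hidx]
        ext g
        constructor
        · rintro ⟨s, hs, rfl⟩
          rw [H77.HN.Rep.mem_fixPt]
          show M.rep.φ (evw M.gen10 (nWord 1) * s * (evw M.gen10 (nWord 1))⁻¹) _ = _
          rw [map_mul, map_mul, map_inv, Equiv.Perm.mul_apply, Equiv.Perm.mul_apply,
            show nWord 1 = loc.n1 from rfl]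
          have hs' : M.rep.φ s ⟨0, by norm_num⟩ = ⟨0, by norm_num⟩ := hs
          simpa using hs'
        · intro hg
          refine ⟨(evw M.gen10 loc.n1)⁻¹ * g * evw M.gen10 loc.n1, ?_, ?_⟩
          · show _ ∈ M.rep.fixPt _
            rw [H77.HN.Rep.mem_fixPt, map_mul, map_mul, map_inv, Equiv.Perm.mul_apply,
              Equiv.Perm.mul_apply, (M.rep.mem_fixPt).1 hg]
            simp
          · show evw M.gen10 (nWord 1) * _ * (evw M.gen10 (nWord 1))⁻¹ = g
            rw [show nWord 1 = loc.n1 from rfl]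
            group
      have h := Subgroup.card_mul_index (Subgroup.comap (Subgroup.centralizer ({x} : Set N)).subtype
        (M.rep.fixPt (M.rep.φ (evw M.gen10 loc.n1) ⟨0, by norm_num⟩)))
      rw [hidx1, hC0] at h
      change Nat.card (Subgroup.comap _ ((M.setting.stab 1).map
        (MulAut.conj (evw M.gen10 (nWord 1))).toMonoidHom)) * 252 = 378000
      rw [heq]
      exact h
    all_goals
      have key : ∀ (S : Subgroup N) (D : SmallData),
          evw M.gen10 D.Y = (evw M.gen10 D.n)⁻¹ * x * evw M.gen10 D.n →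
          Nat.card (Subgroup.comap (Subgroup.centralizer ({x} : Set N)).subtype
            (S.map (MulAut.conj (evw M.gen10 D.n)).toMonoidHom)) =
          Nat.card (Subgroup.centralizer {evw M.gen10 D.Y} ⊓ S : Subgroup N) := by
        intro S D hy
        refine Nat.card_congr
          { toFun := fun c => ⟨(evw M.gen10 D.n)⁻¹ * (c.1 : N) * evw M.gen10 D.n, ?_, ?_⟩
            invFun := fun s => ⟨⟨evw M.gen10 D.n * (s : N) * (evw M.gen10 D.n)⁻¹, ?_⟩, ?_⟩
            left_inv := fun c => Subtype.ext (Subtype.ext (by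
              show evw M.gen10 D.n * ((evw M.gen10 D.n)⁻¹ * (c.1 : N) * evw M.gen10 D.n) *
                (evw M.gen10 D.n)⁻¹ = (c.1 : N)
              group))
            right_inv := fun s => Subtype.ext (by
              show (evw M.gen10 D.n)⁻¹ * (evw M.gen10 D.n * (s : N) * (evw M.gen10 D.n)⁻¹) *
                evw M.gen10 D.n = (s : N)
              group) }
        · show _ ∈ Subgroup.centralizer _
          rw [Subgroup.mem_centralizer_singleton_iff, hy]
          have h := Subgroup.mem_centralizer_singleton_iff.1 c.1.2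
          calc _ = (evw M.gen10 D.n)⁻¹ * ((c.1 : N) * x) * evw M.gen10 D.n := by group
            _ = (evw M.gen10 D.n)⁻¹ * (x * (c.1 : N)) * evw M.gen10 D.n := by rw [h]
            _ = _ := by group
        · obtain ⟨s, hs, hse⟩ := Subgroup.mem_comap.1 c.2
          rw [show (c.1 : N) = evw M.gen10 D.n * s * (evw M.gen10 D.n)⁻¹ from hse.symm]
          simpa [mul_assoc] using hs
        · rw [Subgroup.mem_centralizer_singleton_iff]
          have h0 := Subgroup.mem_centralizer_singleton_iff.1 s.2.1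
          have h : (s : N) * ((evw M.gen10 D.n)⁻¹ * x * evw M.gen10 D.n) =
              (evw M.gen10 D.n)⁻¹ * x * evw M.gen10 D.n * (s : N) :=
            (congrArg (fun y => (s : N) * y) hy.symm).trans (h0.trans (congrArg (fun y => y * (s : N)) hy))
          calc _ = evw M.gen10 D.n * ((s : N) * ((evw M.gen10 D.n)⁻¹ * x * evw M.gen10 D.n)) *
                (evw M.gen10 D.n)⁻¹ := by group
            _ = evw M.gen10 D.n * (((evw M.gen10 D.n)⁻¹ * x * evw M.gen10 D.n) * (s : N)) *
                (evw M.gen10 D.n)⁻¹ := by rw [h]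
            _ = _ := by group
        · exact ⟨(s : N), s.2.2, rfl⟩
    · have h := key (M.setting.stab 2) small2 hy2
      show _ * (if (2 : Fin 5) = 2 then _ else _) = _
      rw [if_pos rfl]
      rw [hc2] at hs2
      change Nat.card (Subgroup.comap _ ((M.setting.stab 2).map
        (MulAut.conj (evw M.gen10 small2.n)).toMonoidHom)) * 2625 = 378000
      omega
    · have h := key (M.setting.stab 3) small3 hy3
      rw [hc3] at hs3
      change Nat.card (Subgroup.comap _ ((M.setting.stab 3).map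
        (MulAut.conj (evw M.gen10 small3.n)).toMonoidHom)) * 750 = 378000
      omega
    · have h := key (M.setting.stab 4) small4 hy4
      rw [hc4] at hs4
      change Nat.card (Subgroup.comap _ ((M.setting.stab 4).map
        (MulAut.conj (evw M.gen10 small4.n)).toMonoidHom)) * 3500 = 378000
      omega
  let D : Data Cfsg.Spor.Ly R X :=
    { g := fun i => gE M (perm5 i)
      g0 := rfl
      cover := fun q => by
        obtain ⟨i, h⟩ := orbit_cover M q
        refine ⟨perm5 i, ?_⟩
        show ∃ n ∈ R, ∃ m ∈ R, q = n * gE M (perm5 (perm5 i)) * m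
        rw [show perm5 (perm5 i) = i by fin_cases i <;> rfl]
        exact h
      disj := fun i j n hn m hm h => by
        have h' := orbit_disj M hidx (perm5 i) (perm5 j) n m hn hm h
        revert h'
        fin_cases i <;> fin_cases j <;> decide
      h := hC
      hg := fun i => by
        show ∃ n ∈ R, ∃ m ∈ R, hE M (perm5 i : ℕ) = n * gE M (perm5 i) * m
        rcases hp : (perm5 i : ℕ) with _ | k
        · exact ⟨1, one_mem R, 1, one_mem R, by simp [hE, gE]⟩
        · exact ⟨_, ⟨_, rfl⟩, _, inv_mem ⟨_, rfl⟩, rfl⟩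
      trans := fun i n hn hfix => by
        obtain ⟨a, rfl⟩ := hn
        have ha := hfixed (perm5 i) a hfix
        by_cases h0 : perm5 i = 0
        · refine ⟨1, one_mem _, ?_⟩
          rw [one_smul]
          show ((hE M (perm5 i : ℕ) : Cfsg.Spor.Ly) : Cfsg.Spor.Ly ⧸ R) = _
          rw [h0, QuotientGroup.eq]
          simp [hE, gE, R]
        obtain ⟨c, hc, s, hs, hacs⟩ := htr _ h0 a ha
        refine ⟨(toC ⟨c, hc⟩).1, (toC ⟨c, hc⟩).2, ?_⟩
        have hp : ∃ k, (perm5 i : ℕ) = k + 1 :=
          ⟨(perm5 i : ℕ) - 1, by have : (perm5 i : ℕ) ≠ 0 := fun h => h0 (Fin.ext h); omega⟩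
        obtain ⟨k, hk⟩ := hp
        show M.ι c • ((hE M (perm5 i : ℕ) : Cfsg.Spor.Ly) : Cfsg.Spor.Ly ⧸ R) = _
        rw [hk, hcoset k, MulAction.Quotient.smul_coe, smul_eq_mul, ← mul_assoc, ← map_mul, ← hk,
          hacs, hmove _ _ _ hs]
      size := fun i => by
        by_cases h0 : perm5 i = 0
        · have hi : i = 0 := by revert h0; fin_cases i <;> decide
          subst hi
          rw [Subgroup.index_eq_one.2 ?_]
          · rfl
          refine eq_top_iff.2 fun c _ => ?_
          rw [MulAction.mem_stabilizer_iff]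
          obtain ⟨c', hc'⟩ := c.2
          show ((c : Subgroup.centralizer ({X} : Set Cfsg.Spor.Ly)) : Cfsg.Spor.Ly) •
            ((hE M 0 : Cfsg.Spor.Ly) : Cfsg.Spor.Ly ⧸ R) = _
          simp only [hE]
          rw [MulAction.Quotient.smul_coe, smul_eq_mul, mul_one]
          show _ = ((1 : Cfsg.Spor.Ly) : Cfsg.Spor.Ly ⧸ R)
          rw [QuotientGroup.eq, mul_one]
          exact inv_mem ⟨c', hc'⟩
        have hnum := hsize _ h0
        obtain ⟨k, hk⟩ : ∃ k, (perm5 i : ℕ) = k + 1 :=
          ⟨(perm5 i : ℕ) - 1, by have : (perm5 i : ℕ) ≠ 0 := fun h => h0 (Fin.ext h); omega⟩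
        have hst : (MulAction.stabilizer (cN R X) (((hC i : Cfsg.Spor.Ly)) : Cfsg.Spor.Ly ⧸ R)).comap
            e.toMonoidHom = Subgroup.comap (Subgroup.centralizer ({x} : Set N)).subtype
              (M.setting.stab (perm5 i) |>.map
                (MulAut.conj (evw M.gen10 (nWord (perm5 i)))).toMonoidHom) := by
          ext c
          rw [Subgroup.mem_comap, Subgroup.mem_comap, MulAction.mem_stabilizer_iff,
            show (hC i : Cfsg.Spor.Ly) = hE M (perm5 i : ℕ) from rfl, hk, hcoset k]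
          show ((((e c : cN R X) : Subgroup.centralizer ({X} : Set Cfsg.Spor.Ly)) : Cfsg.Spor.Ly)) •
            ((M.ι (evw M.gen10 (nWord (k + 1))) * gE M (k + 1) : Cfsg.Spor.Ly) : Cfsg.Spor.Ly ⧸ R) = _ ↔ _
          rw [show ((((e c : cN R X) : Subgroup.centralizer ({X} : Set Cfsg.Spor.Ly)) : Cfsg.Spor.Ly)) =
            M.ι (c : N) from rfl, MulAction.Quotient.smul_coe, smul_eq_mul, QuotientGroup.eq, ← inv_mem_iff, mul_inv_rev,
            inv_inv, ← hk]
          set n := evw M.gen10 (nWord (perm5 i : ℕ))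
          rw [show (M.ι n * gE M (perm5 i : ℕ))⁻¹ * (M.ι (c : N) * (M.ι n * gE M (perm5 i : ℕ))) =
            (gE M (perm5 i : ℕ))⁻¹ * M.ι (n⁻¹ * (c : N) * n) * gE M (perm5 i : ℕ) by
              rw [map_mul, map_mul, map_inv]; group, stab_iff M hidx]
          constructor
          · intro h
            exact ⟨_, h, by show n * (n⁻¹ * (c : N) * n) * n⁻¹ = _; simp [mul_assoc]⟩
          · rintro ⟨s, hs, hse⟩
            have hse' : n * s * n⁻¹ = (c : N) := hse
            rw [← hse']
            simpa [mul_assoc] using hs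
        have hix : (MulAction.stabilizer (cN R X) (((hC i : Cfsg.Spor.Ly)) : Cfsg.Spor.Ly ⧸ R)).index =
            ((MulAction.stabilizer (cN R X) (((hC i : Cfsg.Spor.Ly)) : Cfsg.Spor.Ly ⧸ R)).comap
              e.toMonoidHom).index := (Subgroup.index_comap_of_surjective _ e.surjective).symm
        rw [hix, hst]
        have h2 := Subgroup.card_mul_index (Subgroup.comap (Subgroup.centralizer ({x} : Set N)).subtype
          (M.setting.stab (perm5 i) |>.map (MulAut.conj (evw M.gen10 (nWord (perm5 i)))).toMonoidHom))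
        rw [hC0, ← hnum] at h2
        have hpos : 0 < Nat.card (Subgroup.comap (Subgroup.centralizer ({x} : Set N)).subtype
          (M.setting.stab (perm5 i) |>.map (MulAut.conj (evw M.gen10 (nWord (perm5 i)))).toMonoidHom)) :=
          Nat.card_pos
        rw [Nat.eq_of_mul_eq_mul_left hpos h2]
        revert h0
        fin_cases i <;> decide }
  have hordX : orderOf X = 3 := by rw [orderOf_injective M.ι hι]; exact hord
  have hM : Nat.card (cN R X) = 378000 := by rw [← Nat.card_congr e.toEquiv]; exact hC0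
  let φ' : cN R X →* Equiv.Perm (Fin 126) := φ.comp e.symm.toMonoidHom
  have hr : φ'.range = φ.range := by
    show (φ.comp e.symm.toMonoidHom).range = _
    rw [MonoidHom.range_comp, MonoidHom.range_eq_top.2 e.symm.surjective, ← MonoidHom.range_eq_map]
  have hker' : φ'.ker = (Subgroup.zpowers (selfC X)).subgroupOf (cN R X) := by
    ext c
    obtain ⟨c', rfl⟩ := e.surjective c
    rw [MonoidHom.mem_ker, Subgroup.mem_subgroupOf]
    show φ (e.symm (e c')) = 1 ↔ _
    rw [e.symm_apply_apply, ← MonoidHom.mem_ker, hker, Subgroup.mem_subgroupOf,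
      Subgroup.mem_zpowers_iff, Subgroup.mem_zpowers_iff]
    refine exists_congr fun k => ?_
    rw [← Subtype.coe_injective.eq_iff (b := ((e c' : cN R X) : Subgroup.centralizer {X}))]
    show x ^ k = (c' : N) ↔ ((selfC X ^ k : Subgroup.centralizer {X}) : Cfsg.Spor.Ly) = M.ι (c' : N)
    rw [Subgroup.coe_zpow]
    show _ ↔ (M.ι x) ^ k = _
    rw [← map_zpow, hι.eq_iff]
  obtain ⟨hc, hs, hn⟩ := H11.Ly3A.main (α := Fin 126) D hXR hordX hM φ' hker'
    (by rw [hr]; exact hperf) (by rw [hr]; exact hprim) 0 (by rw [hr]; exact hsolv)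
  exact ⟨X, hordX, hc, hs, hn⟩

end H11.Ly3A
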