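import Cfsg.Agent.H11.Ly3A.Structure

/-!
Permutations of `2n` numbered points that respect the pairs `{2j, 2j+1}`, acting on the `n` pairs,
and a lower bound for the order of a group from orbits of two stabilisers.
-/

set_option autoImplicit false

namespace H11.Ly3A

open scoped Pointwise

open MulAction

variable (n : ℕ)

/-- exchange inside each pair -/
def pairSwap : Equiv.Perm (Fin (2 * n)) :=
  Function.Involutive.toPerm
    (fun k => ⟨if k.val % 2 = 0 then k.val + 1 else k.val - 1, by have := k.2; split <;> omega⟩)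
    (fun k => by ext; simp only; split_ifs <;> omega)

theorem pairSwap_val (k : Fin (2 * n)) :
    (pairSwap n k).val = if k.val % 2 = 0 then k.val + 1 else k.val - 1 := rfl

/-- the permutations respecting the pairs -/
abbrev PairGroup : Subgroup (Equiv.Perm (Fin (2 * n))) := Subgroup.centralizer {pairSwap n}

theorem pair_apply (g : PairGroup n) (k : Fin (2 * n)) :
    (g : Equiv.Perm _) (pairSwap n k) = pairSwap n ((g : Equiv.Perm _) k) := by
  have := Subgroup.mem_centralizer_singleton_iff.1 g.2
  exact congrArg (fun p : Equiv.Perm _ => p k) this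

/-- the pair of a point -/
def pairOf (k : Fin (2 * n)) : Fin n := ⟨k.val / 2, by have := k.2; omega⟩

/-- the even point of a pair -/
def pairRep (j : Fin n) : Fin (2 * n) := ⟨2 * j.val, by have := j.2; omega⟩

theorem pairOf_rep (j : Fin n) : pairOf n (pairRep n j) = j := by
  ext; simp [pairOf, pairRep]

theorem pairOf_swap (k : Fin (2 * n)) : pairOf n (pairSwap n k) = pairOf n k := by
  ext; simp only [pairOf, pairSwap_val]; split_ifs <;> omega

theorem rep_pairOf (k : Fin (2 * n)) :
    pairRep n (pairOf n k) = k ∨ pairRep n (pairOf n k) = pairSwap n k := by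
  rcases Nat.mod_two_eq_zero_or_one k.val with h | h
  · left; ext; simp only [pairRep, pairOf]; omega
  · right; ext; simp only [pairRep, pairOf, pairSwap_val, h]; simp; omega

theorem pairOf_apply (g : PairGroup n) (k : Fin (2 * n)) :
    pairOf n ((g : Equiv.Perm _) (pairRep n (pairOf n k))) = pairOf n ((g : Equiv.Perm _) k) := by
  rcases rep_pairOf n k with h | h
  · rw [h]
  · rw [h, pair_apply, pairOf_swap]

/-- the action on the pairs -/
def pairAct : MulAction (PairGroup n) (Fin n) where
  smul g j := pairOf n ((g : Equiv.Perm _) (pairRep n j))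
  one_smul j := pairOf_rep n j
  mul_smul g h j := by
    show pairOf n (((g * h : PairGroup n) : Equiv.Perm _) (pairRep n j)) =
      pairOf n ((g : Equiv.Perm _) (pairRep n (pairOf n ((h : Equiv.Perm _) (pairRep n j)))))
    rw [pairOf_apply]
    rfl

/-- the permutations of the pairs -/
def pairHom : PairGroup n →* Equiv.Perm (Fin n) :=
  letI := pairAct n
  MulAction.toPermHom (PairGroup n) (Fin n)

theorem pairHom_apply (g : PairGroup n) (j : Fin n) :
    pairHom n g j = pairOf n ((g : Equiv.Perm _) (pairRep n j)) := rfl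

/-- orders from three orbits -/
theorem le_card_of_orbits {H α : Type*} [Group H] [Finite H] [MulAction H α] [Finite α]
    (a b c : α) (m : ℕ) (f : Fin m → α) (hf : Function.Injective f)
    (h1 : ∀ q : α, ∃ h : H, h • a = q)
    (h2 : ∀ q : α, q ≠ a → ∃ h : H, h • a = a ∧ h • b = q)
    (h3 : ∀ k, ∃ h : H, h • a = a ∧ h • b = b ∧ h • c = f k) (hab : b ≠ a) :
    Nat.card α * (Nat.card α - 1) * m ≤ Nat.card H := by
  classical
  let T := Σ' (_ : α) (q : {q : α // q ≠ a}), Fin m
  choose s1 hs1 using h1
  choose s2 hs2 hs2' using h2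
  choose s3 hs3 hs3' hs3'' using h3
  let F : α × {q : α // q ≠ a} × Fin m → H :=
    fun p => s1 p.1 * s2 p.2.1 p.2.1.2 * s3 p.2.2
  have hF : Function.Injective F := by
    rintro ⟨q, r, k⟩ ⟨q', r', k'⟩ he
    simp only [F] at he
    have e1 : ∀ (u : α) (v : {q : α // q ≠ a}) (w : Fin m),
        (s1 u * s2 v v.2 * s3 w) • a = u := fun u v w => by
      rw [mul_smul, mul_smul, hs3, hs2, hs1]
    have hq : q = q' := by rw [← e1 q r k, he, e1]
    subst hq
    rw [mul_assoc, mul_assoc, mul_right_inj] at he
    have e2 : ∀ (v : {q : α // q ≠ a}) (w : Fin m), (s2 v v.2 * s3 w) • b = v.1 := fun v w => by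
      rw [mul_smul, hs3', hs2']
    have hr : r = r' := Subtype.ext (by rw [← e2 r k, he, e2])
    subst hr
    rw [mul_right_inj] at he
    have hk : k = k' := hf (by rw [← hs3'' k, he, hs3''])
    subst hk
    rfl
  have h := Nat.card_le_card_of_injective F hF
  rw [Nat.card_prod, Nat.card_prod, Nat.card_eq_fintype_card (α := Fin m), Fintype.card_fin] at h
  haveI := Fintype.ofFinite α
  have hc : Nat.card {q : α // q ≠ a} = Nat.card α - 1 := by
    rw [Nat.card_eq_fintype_card, Nat.card_eq_fintype_card, Fintype.card_subtype_compl,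
      Fintype.card_subtype_eq]
  rw [hc, ← mul_assoc] at h
  exact h

/-- transitivity on the other points gives primitivity -/
theorem isPreprimitive_of_two {H α : Type*} [Group H] [MulAction H α] (a b : α)
    (h1 : ∀ q : α, ∃ h : H, h • a = q)
    (h2 : ∀ q : α, q ≠ a → ∃ h : H, h • a = a ∧ h • b = q) : IsPreprimitive H α := by
  haveI : IsPretransitive H α := ⟨fun x y => by
    obtain ⟨u, hu⟩ := h1 x
    obtain ⟨v, hv⟩ := h1 y
    exact ⟨v * u⁻¹, by rw [mul_smul, ← hu, inv_smul_smul, hv]⟩⟩
  refine IsPreprimitive.of_isTrivialBlock_base a fun {B} ha hB => ?_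
  by_cases hB1 : ∀ q ∈ B, q = a
  · exact Or.inl fun x hx y hy => (hB1 x hx).trans (hB1 y hy).symm
  · right
    push Not at hB1
    obtain ⟨q, hq, hqa⟩ := hB1
    refine Set.eq_univ_of_forall fun r => ?_
    by_cases hra : r = a
    · rw [hra]; exact ha
    obtain ⟨u, hua, hub⟩ := h2 q hqa
    obtain ⟨v, hva, hvb⟩ := h2 r hra
    have hfix : ∀ w : H, w • a = a → ∀ x ∈ B, w • x ∈ B := fun w hw x hx => by
      have h3 : w • B = B := hB.smul_eq_of_nonempty ⟨a, by
        have h4 : w • a ∈ w • B := Set.smul_mem_smul_set ha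
        rw [hw] at h4
        exact ⟨h4, ha⟩⟩
      rw [← h3]
      exact Set.smul_mem_smul_set hx
    have := hfix (v * u⁻¹) (by rw [mul_smul, inv_smul_eq_iff.2 hua.symm, hva]) q hq
    rwa [mul_smul, inv_smul_eq_iff.2 hub.symm, hvb] at this

end H11.Ly3A
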