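import Cfsg.Agent.H11.Ly3A.SmallStab

/-!
Finite checks for the single class in a small stabiliser: a Sylow 3-subgroup with the fate of each
of its elements, and the class of the chosen element.
-/

set_option autoImplicit false

namespace H11.Ly3A

open H77.HN (evw invw agree run runK runK_eq Rep)

/-- the data -/
structure SmallData where
  /-- generators, followed by their inverses -/
  gens : List (List ℕ)
  /-- the chosen element of the class -/
  Y : List ℕ
  /-- it is the conjugate of `X` by this word -/
  n : List ℕ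
  /-- generators of a Sylow 3-subgroup, as words in `gens` -/
  qg : List (List ℕ)
  /-- its elements, as words in `qg` -/
  q : List (List ℕ)
  /-- products with the generators -/
  qnxt : List (List ℕ)
  /-- for each element: a word in `gens` carrying it to `Y` (flag 0) or to one of `Z` (flag j+1) -/
  fate : List (List ℕ × ℕ)
  /-- excluded elements -/
  Z : List (List ℕ)
  /-- the class: conjugating words in `gens` -/
  cl : List (List ℕ)
  /-- conjugates of the class list by the generators -/
  cnxt : List (List ℕ)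

namespace SmallData

variable (D : SmallData) (T : ℕ → ℕ → ℕ) (B : List ℕ)

/-- letters for a word in `gens` -/
def sub (w : List ℕ) : List ℕ := w.flatMap fun i => D.gens.getD i []

/-- an element of the Sylow subgroup -/
def qw (e : ℕ) : List ℕ := (D.q.getD e []).flatMap fun j => D.sub (D.qg.getD j [])

/-- an element of the class -/
def cw (e : ℕ) : List ℕ :=
  invw (fun l => l ^^^ 1) (D.sub (D.cl.getD e [])) ++ D.Y ++ D.sub (D.cl.getD e [])

/-- the images of the base -/
noncomputable def tuple (w : List ℕ) : List ℕ := B.map fun b => runK T w b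

noncomputable def chkQ (k : ℕ) : Bool :=
  decide (D.q.length = 3 ^ k) &&
  decide ((List.range D.q.length).map fun e => tuple T B (D.qw e)).Nodup &&
  decide (D.q.getD 0 [0] = []) &&
  ((List.range D.q.length).all fun e => (List.range D.qg.length).all fun j =>
    decide ((D.qnxt.getD e []).getD j 0 < D.q.length) &&
      agree T B (D.sub (D.qg.getD j []) ++ D.qw e) (D.qw ((D.qnxt.getD e []).getD j 0))) &&
  D.q.all (fun w => w.all fun j => decide (j < D.qg.length)) &&
  D.qg.all fun w => w.all fun i => decide (i < D.gens.length)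

noncomputable def chkFate (X : List ℕ) : Bool :=
  agree T B (D.n ++ X ++ invw (fun l => l ^^^ 1) D.n) D.Y &&
  (List.range D.q.length).all fun e => decide (e = 0) ||
    ((D.fate.getD e ([], 0)).1.all (fun i => decide (i < D.gens.length)) &&
      decide ((D.fate.getD e ([], 0)).2 ≤ D.Z.length) &&
      agree T B (invw (fun l => l ^^^ 1) (D.sub (D.fate.getD e ([], 0)).1) ++ D.qw e ++
        D.sub (D.fate.getD e ([], 0)).1) ((D.Y :: D.Z).getD (D.fate.getD e ([], 0)).2 []))

noncomputable def chkClass (m : ℕ) : Bool :=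
  decide (D.cl.length = m) && decide (D.cl.getD 0 [0] = []) &&
  decide ((List.range D.cl.length).map fun e => tuple T B (D.cw e)).Nodup &&
  D.cl.all (fun w => w.all fun i => decide (i < D.gens.length)) &&
  (List.range D.cl.length).all fun e => (List.range D.gens.length).all fun i =>
    decide ((D.cnxt.getD e []).getD i 0 < D.cl.length) &&
      agree T B (invw (fun l => l ^^^ 1) (D.gens.getD i []) ++ D.cw e ++ D.gens.getD i [])
        (D.cw ((D.cnxt.getD e []).getD i 0))

end SmallData

open SmallData in
theorem small_stab {N β : Type*} [Group N] [Finite N] {gen : ℕ → N} {n : ℕ} {T : ℕ → ℕ → ℕ}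
    {B : List ℕ} (R : Rep gen n T) (hB : R.IsBase B) (hinv : ∀ l, gen (l ^^^ 1) = (gen l)⁻¹)
    (D : SmallData) (X : List ℕ) (k m : ℕ) (hX : orderOf (evw gen X) = 3) (S : Subgroup N)
    (hS : S = Subgroup.closure {g | g ∈ D.gens.map (evw gen)}) (hS3 : ¬ 3 ^ (k + 1) ∣ Nat.card S)
    (χ : N → β) (hχ : ∀ a z : N, χ (a⁻¹ * z * a) = χ z)
    (hZ : ∀ w ∈ D.Z, χ (evw gen w) ≠ χ (evw gen X))
    (h1 : D.chkQ T B k = true) (h2 : D.chkFate T B X = true) (h3 : D.chkClass T B m = true) :
    evw gen D.Y = (evw gen D.n)⁻¹ * evw gen X * evw gen D.n ∧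
    (∀ a : N, a⁻¹ * evw gen X * a ∈ S →
      ∃ s ∈ S, s * (a⁻¹ * evw gen X * a) * s⁻¹ = evw gen D.Y) ∧
    Nat.card (Subgroup.centralizer {evw gen D.Y} ⊓ S : Subgroup N) * m = Nat.card S := by
  simp only [chkQ, Bool.and_eq_true, decide_eq_true_eq, List.all_eq_true, List.mem_range] at h1
  obtain ⟨⟨⟨⟨⟨hql, hqnd⟩, hq0⟩, hqn⟩, hqi⟩, hqgi⟩ := h1
  simp only [chkFate, Bool.and_eq_true, decide_eq_true_eq, List.all_eq_true, List.mem_range,
    Bool.or_eq_true] at h2
  obtain ⟨hY, hfate⟩ := h2
  simp only [chkClass, Bool.and_eq_true, decide_eq_true_eq, List.all_eq_true, List.mem_range] at h3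
  obtain ⟨⟨⟨⟨hcl, hc0⟩, hcnd⟩, hci⟩, hcn⟩ := h3
  have hYe : evw gen D.Y = (evw gen D.n)⁻¹ * evw gen X * evw gen D.n := by
    rw [← R.evw_eq_of_agree hB hY]
    simp only [H77.HN.evw_append, H77.HN.evw_invw hinv, mul_assoc]
  have hgen : ∀ i < D.gens.length, evw gen (D.gens.getD i []) ∈ S := fun i hi => by
    rw [hS]
    refine Subgroup.subset_closure (List.mem_map.2 ⟨_, ?_, rfl⟩)
    rw [List.getD_eq_getElem _ _ hi]
    exact List.getElem_mem _
  have hsub : ∀ w : List ℕ, (∀ i ∈ w, i < D.gens.length) → evw gen (D.sub w) ∈ S := by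
    intro w
    induction w with
    | nil => intro _; simp [SmallData.sub]
    | cons i w ih =>
      intro hw
      simp only [List.mem_cons, forall_eq_or_imp] at hw
      rw [SmallData.sub, List.flatMap_cons, H77.HN.evw_append]
      exact S.mul_mem (ih hw.2) (hgen i hw.1)
  have hinj : ∀ u v : List ℕ, evw gen u = evw gen v → tuple T B u = tuple T B v := by
    intro u v h
    refine List.map_congr_left fun b hb => ?_
    rw [runK_eq, runK_eq, ← R.evw_apply _ ⟨b, hB.1 b hb⟩, ← R.evw_apply _ ⟨b, hB.1 b hb⟩, h]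
  -- the Sylow subgroup
  let qgens : List N := D.qg.map fun w => evw gen (D.sub w)
  let Ql : List N := (List.range D.q.length).map fun e => evw gen (D.qw e)
  have hqgen : ∀ j < D.qg.length, evw gen (D.sub (D.qg.getD j [])) ∈
      Subgroup.closure {g | g ∈ qgens} := fun j hj => by
    refine Subgroup.subset_closure (List.mem_map.2 ⟨_, ?_, rfl⟩)
    rw [List.getD_eq_getElem _ _ hj]
    exact List.getElem_mem _
  have hQl : ∀ z, z ∈ Subgroup.closure {g | g ∈ qgens} ↔ z ∈ Ql := by
    refine closure_eq_of_list qgens Ql ?_ ?_ ?_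
    · refine List.mem_map.2 ⟨0, List.mem_range.2 ?_, ?_⟩
      · rw [hql]; exact pow_pos (by norm_num) k
      · have h0 : D.q.getD 0 [] = [] := by
          rw [List.getD_eq_getElem _ _ (by rw [hql]; exact pow_pos (by norm_num) k)] at hq0 ⊢
          exact hq0
        rw [SmallData.qw, h0]
        rfl
    · intro e he
      obtain ⟨i, hi, rfl⟩ := List.mem_map.1 he
      rw [SmallData.qw]
      have hw : ∀ j ∈ D.q.getD i [], j < D.qg.length := by
        rw [List.getD_eq_getElem _ _ (List.mem_range.1 hi)]
        exact hqi _ (List.getElem_mem _)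
      generalize D.q.getD i [] = w at hw
      induction w with
      | nil => simp
      | cons j w ih =>
        simp only [List.mem_cons, forall_eq_or_imp] at hw
        rw [List.flatMap_cons, H77.HN.evw_append]
        exact Subgroup.mul_mem _ (ih hw.2) (hqgen j hw.1)
    · intro e he g hg
      obtain ⟨i, hi, rfl⟩ := List.mem_map.1 he
      obtain ⟨w, hw, rfl⟩ := List.mem_map.1 hg
      obtain ⟨j, hj, rfl⟩ := List.getElem_of_mem hw
      obtain ⟨hlt, hag⟩ := hqn i (List.mem_range.1 hi) j hj
      refine List.mem_map.2 ⟨_, List.mem_range.2 hlt, ?_⟩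
      rw [← R.evw_eq_of_agree hB hag, H77.HN.evw_append, List.getD_eq_getElem _ _ hj]
  have hQcard : Nat.card (Subgroup.closure {g | g ∈ qgens}) = 3 ^ k := by
    classical
    have hnd : Ql.Nodup := by
      refine List.Nodup.map_on ?_ List.nodup_range
      intro a ha b hb hab
      exact List.inj_on_of_nodup_map hqnd ha hb (hinj _ _ hab)
    rw [← SetLike.coe_sort_coe, Nat.card_coe_set_eq,
      show ((Subgroup.closure {g | g ∈ qgens} : Subgroup N) : Set N) = (Ql.toFinset : Set N) by
        ext z; simp [hQl],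
      Set.ncard_coe_finset, List.toFinset_card_of_nodup hnd, List.length_map, List.length_range,
      hql]
  have hQS : Subgroup.closure {g | g ∈ qgens} ≤ S := by
    rw [Subgroup.closure_le]
    intro g hg
    obtain ⟨w, hw, rfl⟩ := List.mem_map.1 hg
    exact hsub w (hqgi w hw)
  refine ⟨hYe, fun a ha => ?_, ?_⟩
  · refine one_class_of_sylow S _ _ χ hχ hX _ hQS hQcard hS3 ?_ a ha
    intro e he hne hce
    obtain ⟨i, hi, rfl⟩ := List.mem_map.1 ((hQl e).1 he)
    have hi0 : i ≠ 0 := by
      rintro rfl
      apply hne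
      have h0 : D.q.getD 0 [] = [] := by
        rw [List.getD_eq_getElem _ _ (List.mem_range.1 hi)] at hq0 ⊢
        exact hq0
      rw [SmallData.qw, h0]
      rfl
    obtain ⟨⟨hfl, hft⟩, hfa⟩ := (hfate i (List.mem_range.1 hi)).resolve_left hi0
    have heq := R.evw_eq_of_agree hB hfa
    simp only [H77.HN.evw_append, H77.HN.evw_invw hinv, ← mul_assoc] at heq
    refine ⟨_, hsub _ hfl, ?_⟩
    rcases hj : (D.fate.getD i ([], 0)).2 with _ | j
    · rw [hj, List.getD_cons_zero] at heq
      exact heq
    · exfalso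
      rw [hj, List.getD_cons_succ] at heq
      have hjl : j < D.Z.length := by omega
      refine hZ (D.Z.getD j []) (by rw [List.getD_eq_getElem _ _ hjl]; exact List.getElem_mem _) ?_
      rw [← heq, ← hce]
      have := hχ (evw gen (D.sub (D.fate.getD i ([], 0)).1))⁻¹ (evw gen (D.qw i))
      rwa [inv_inv] at this
  · let Ll : List N := (List.range D.cl.length).map fun e => evw gen (D.cw e)
    have hlen : Ll.length = m := by simp [Ll, hcl]
    have hcw : ∀ e, evw gen (D.cw e) = evw gen (D.sub (D.cl.getD e [])) * evw gen D.Y *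
        (evw gen (D.sub (D.cl.getD e [])))⁻¹ := fun e => by
      simp only [SmallData.cw, H77.HN.evw_append, H77.HN.evw_invw hinv, mul_assoc]
    rw [← hlen]
    refine card_centralizer_of_class (D.gens.map (evw gen)) S hS _ Ll ?_ ?_ ?_ ?_
    · have h0l : 0 < D.cl.length := by
        by_contra h
        rw [List.getD_eq_default _ _ (by omega)] at hc0
        simp at hc0
      refine List.mem_map.2 ⟨0, List.mem_range.2 h0l, ?_⟩
      rw [hcw, show D.cl.getD 0 [] = [] by
        rw [List.getD_eq_getElem _ _ h0l] at hc0 ⊢; exact hc0]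
      simp [SmallData.sub]
    · refine List.Nodup.map_on ?_ List.nodup_range
      intro a ha b hb hab
      exact List.inj_on_of_nodup_map hcnd ha hb (hinj _ _ hab)
    · intro e he
      obtain ⟨i, hi, rfl⟩ := List.mem_map.1 he
      refine ⟨_, hsub (D.cl.getD i []) ?_, (hcw i).symm⟩
      rw [List.getD_eq_getElem _ _ (List.mem_range.1 hi)]
      exact hci _ (List.getElem_mem _)
    · intro e he g hg
      obtain ⟨i, hi, rfl⟩ := List.mem_map.1 he
      obtain ⟨w, hw, rfl⟩ := List.mem_map.1 hg
      obtain ⟨j, hj, rfl⟩ := List.getElem_of_mem hw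
      obtain ⟨hlt, hag⟩ := hcn i (List.mem_range.1 hi) j hj
      refine List.mem_map.2 ⟨_, List.mem_range.2 hlt, ?_⟩
      rw [← R.evw_eq_of_agree hB hag]
      simp only [H77.HN.evw_append, H77.HN.evw_invw hinv, List.getD_eq_getElem _ _ hj, mul_assoc]

end H11.Ly3A
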