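import Cfsg.Agent.H77.HN.Words

/-!
One class of conjugates of an element of order 3 in a small subgroup, from a Sylow 3-subgroup; the
length of a class from a closed list.
-/

set_option autoImplicit false

namespace H11.Ly3A

open H77.HN (evw invw agree run)

variable {N : Type*} [Group N]

/-- a finite list closed under products by the generators is the carrier of their closure -/
theorem closure_eq_of_list (gens L : List N) (h1 : (1 : N) ∈ L)
    (hgen : ∀ e ∈ L, e ∈ Subgroup.closure {g | g ∈ gens})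
    (hclosed : ∀ e ∈ L, ∀ g ∈ gens, e * g ∈ L) (z : N) :
    z ∈ Subgroup.closure {g | g ∈ gens} ↔ z ∈ L := by
  refine ⟨fun hz => ?_, hgen z⟩
  have key : ∀ g ∈ Subgroup.closure {g : N | g ∈ gens}, ∀ e ∈ L, e * g ∈ L := by
    intro g hg
    have hfin : {e : N | e ∈ L}.Finite := L.finite_toSet
    induction hg using Subgroup.closure_induction with
    | mem a ha => exact fun e he => hclosed e he a ha
    | one => intro e he; rwa [mul_one]
    | mul a b _ _ ha hb => intro e he; rw [← mul_assoc]; exact hb _ (ha e he)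
    | inv a _ ha =>
      intro e he
      have himg : (fun e => e * a) '' {e : N | e ∈ L} = {e : N | e ∈ L} := by
        refine Set.eq_of_subset_of_ncard_le ?_ ?_ hfin
        · rintro _ ⟨u, hu, rfl⟩; exact ha u hu
        · rw [Set.ncard_image_of_injective _ (mul_left_injective a)]
      have he' : e ∈ (fun e => e * a) '' {e : N | e ∈ L} := by rw [himg]; exact he
      obtain ⟨u, hu, rfl⟩ := he'
      simpa using hu
  simpa using key z hz 1 h1

/-- one class of conjugates of `x` inside `S` -/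
theorem one_class_of_sylow [Finite N] {β : Type*} (S : Subgroup N) (x y : N) (χ : N → β)
    (hχ : ∀ n z : N, χ (n⁻¹ * z * n) = χ z) (hx : orderOf x = 3)
    (Q : Subgroup N) (hQS : Q ≤ S) {k : ℕ} (hk : Nat.card Q = 3 ^ k)
    (hS : ¬ 3 ^ (k + 1) ∣ Nat.card S)
    (hQ : ∀ e ∈ Q, e ≠ 1 → χ e = χ x → ∃ s ∈ S, s * e * s⁻¹ = y)
    (n : N) (hn : n⁻¹ * x * n ∈ S) : ∃ s ∈ S, s * (n⁻¹ * x * n) * s⁻¹ = y := by
  haveI : Fact (Nat.Prime 3) := ⟨by norm_num⟩
  set z := n⁻¹ * x * n with hz
  have hQ' : IsPGroup 3 (Q.subgroupOf S) :=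
    IsPGroup.of_card (n := k) (by rw [Nat.card_congr (Subgroup.subgroupOfEquivOfLe hQS).toEquiv, hk])
  obtain ⟨P, hP⟩ := hQ'.exists_le_sylow
  have hPcard : Nat.card P = 3 ^ k := by
    obtain ⟨j, hj⟩ := IsPGroup.iff_card.1 P.isPGroup'
    have h1 : 3 ^ k ∣ 3 ^ j := by
      rw [← hj, ← hk, ← Nat.card_congr (Subgroup.subgroupOfEquivOfLe hQS).toEquiv]
      exact Subgroup.card_dvd_of_le hP
    have h2 : j ≤ k := by
      by_contra hjk
      refine hS (dvd_trans (pow_dvd_pow 3 (by omega : k + 1 ≤ j)) ?_)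
      rw [← hj]
      exact Subgroup.card_subgroup_dvd_card _
    rw [hj, le_antisymm h2 ((Nat.pow_dvd_pow_iff_le_right (by norm_num)).1 h1)]
  have hPQ : (P : Subgroup S) = Q.subgroupOf S := by
    refine (Subgroup.eq_of_le_of_card_ge hP ?_).symm
    rw [Nat.card_congr (Subgroup.subgroupOfEquivOfLe hQS).toEquiv, hk]
    exact le_of_eq hPcard
  have hord : orderOf (⟨z, hn⟩ : S) = 3 := by
    rw [← Subgroup.orderOf_coe]
    show orderOf (n⁻¹ * x * n) = 3
    have := orderOf_injective (MulAut.conj n⁻¹).toMonoidHom (MulAut.conj n⁻¹).injective x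
    simpa [hx] using this
  have hzp : IsPGroup 3 (Subgroup.zpowers (⟨z, hn⟩ : S)) :=
    IsPGroup.of_card (n := 1) (by rw [Nat.card_zpowers, hord, pow_one])
  obtain ⟨P', hP'⟩ := hzp.exists_le_sylow
  obtain ⟨g, hg⟩ := MulAction.exists_smul_eq S P' P
  have h2 : g * (⟨z, hn⟩ : S) * g⁻¹ ∈ (P : Subgroup S) := by
    rw [← hg]
    exact ⟨⟨z, hn⟩, hP' (Subgroup.mem_zpowers _), rfl⟩
  rw [hPQ, Subgroup.mem_subgroupOf] at h2
  have hne : (g : N) * z * (g : N)⁻¹ ≠ 1 := by
    intro h
    have h1 : z = 1 := by simpa using h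
    have : (⟨z, hn⟩ : S) = 1 := Subtype.ext h1
    rw [this, orderOf_one] at hord
    omega
  have hc : χ ((g : N) * z * (g : N)⁻¹) = χ x := by
    have := hχ (g : N)⁻¹ z
    rw [inv_inv] at this
    rw [this, hz, hχ]
  obtain ⟨s, hs, hse⟩ := hQ _ (by simpa using h2) hne hc
  exact ⟨s * g, S.mul_mem hs g.2, by rw [← hse]; group⟩

/-- the centraliser of an element with a class given by a list without repetitions -/
theorem card_centralizer_of_class [Finite N] (gens : List N) (S : Subgroup N)
    (hS : S = Subgroup.closure {g | g ∈ gens}) (y : N) (L : List N) (hy : y ∈ L)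
    (hnd : L.Nodup) (hmem : ∀ e ∈ L, ∃ s ∈ S, s * y * s⁻¹ = e)
    (hclosed : ∀ e ∈ L, ∀ g ∈ gens, g * e * g⁻¹ ∈ L) :
    Nat.card (Subgroup.centralizer {y} ⊓ S : Subgroup N) * L.length = Nat.card S := by
  classical
  letI : MulAction S N := MulAction.compHom N
    ((MulAut.conj (G := N)).comp S.subtype)
  have hsm : ∀ (s : S) (e : N), s • e = (s : N) * e * (s : N)⁻¹ := fun s e => rfl
  have hstab : Nat.card (MulAction.stabilizer S y) =
      Nat.card (Subgroup.centralizer {y} ⊓ S : Subgroup N) := by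
    refine Nat.card_congr
      ⟨fun s => ⟨(s.1 : N), ⟨?_, s.1.2⟩⟩, fun s => ⟨⟨s.1, s.2.2⟩, ?_⟩, fun _ => rfl, fun _ => rfl⟩
    · have h := MulAction.mem_stabilizer_iff.1 s.2
      rw [hsm, mul_inv_eq_iff_eq_mul] at h
      exact Subgroup.mem_centralizer_singleton_iff.2 h
    · rw [MulAction.mem_stabilizer_iff, hsm, mul_inv_eq_iff_eq_mul]
      exact Subgroup.mem_centralizer_singleton_iff.1 s.2.1
  have key : ∀ s ∈ S, ∀ e ∈ L, s * e * s⁻¹ ∈ L := by
    intro s hs
    rw [hS] at hs
    induction hs using Subgroup.closure_induction with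
    | mem a ha => exact fun e he => hclosed e he a ha
    | one => intro e he; simpa using he
    | mul a b _ _ ha hb =>
      intro e he
      have := ha _ (hb e he)
      simpa [mul_assoc] using this
    | inv a _ ha =>
      intro e he
      have himg : (fun e => a * e * a⁻¹) '' {e : N | e ∈ L} = {e : N | e ∈ L} := by
        refine Set.eq_of_subset_of_ncard_le ?_ ?_ L.finite_toSet
        · rintro _ ⟨u, hu, rfl⟩; exact ha u hu
        · rw [Set.ncard_image_of_injective _ (fun u v h => by simpa using h)]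
      have he' : e ∈ (fun e => a * e * a⁻¹) '' {e : N | e ∈ L} := by rw [himg]; exact he
      obtain ⟨u, hu, rfl⟩ := he'
      simpa [mul_assoc] using hu
  have horb : MulAction.orbit S y = {e : N | e ∈ L} := by
    ext e
    constructor
    · rintro ⟨s, rfl⟩
      exact key s s.2 y hy
    · intro he
      obtain ⟨s, hs, hse⟩ := hmem e he
      exact ⟨⟨s, hs⟩, hse⟩
  have h := (MulAction.stabilizer S y).card_mul_index
  rw [MulAction.index_stabilizer, horb, hstab] at h
  rwa [show {e : N | e ∈ L}.ncard = L.length by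
    rw [show {e : N | e ∈ L} = (L.toFinset : Set N) by ext; simp, Set.ncard_coe_finset,
      List.toFinset_card_of_nodup hnd]] at h

end H11.Ly3A
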