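import Mathlib

/-!
Group-theoretic criteria for the structure of the centraliser of an element of class 3A in the
Lyons group: simplicity from the subdegrees 1, 252, 750, 2625, 3500 of a faithful action of degree
7128, simplicity of its point stabiliser from a primitive action with solvable stabiliser, and the
centre of a central extension of a simple group.
-/

set_option autoImplicit false

namespace H11.Ly3A

open MulAction Pointwise

/-- the subdegrees -/
def sz : Fin 5 → ℕ := ![1, 252, 750, 2625, 3500]

theorem sz_dvd_imp : ∀ T : Finset (Fin 5), (0 : Fin 5) ∈ T → (∑ i ∈ T, sz i) ∣ 7128 →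
    T = {0} ∨ T = Finset.univ := by decide

theorem sz_big : ∀ i : Fin 5, i ≠ 0 → 252 ≤ sz i := by decide

section

variable {Q Ω : Type*} [Group Q] [MulAction Q Ω]

/-- an invariant set under the stabiliser is a union of classes -/
theorem invariant_eq_preimage (a : Ω) (cls : Ω → Fin 5)
    (htr : ∀ b c : Ω, cls b = cls c → ∃ g ∈ stabilizer Q a, g • b = c)
    (B : Set Ω) (hB : ∀ g ∈ stabilizer Q a, ∀ b ∈ B, g • b ∈ B) :
    B = cls ⁻¹' (cls '' B) := by
  refine Set.Subset.antisymm (Set.subset_preimage_image _ _) ?_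
  rintro c ⟨b, hb, hbc⟩
  obtain ⟨g, hg, rfl⟩ := htr b c hbc
  exact hB g hg b hb

/-- cardinality of a union of classes -/
theorem ncard_preimage_classes [Finite Ω] (cls : Ω → Fin 5)
    (hsz : ∀ i, (cls ⁻¹' {i}).ncard = sz i) (T : Finset (Fin 5)) :
    (cls ⁻¹' (T : Set (Fin 5))).ncard = ∑ i ∈ T, sz i := by
  classical
  haveI := Fintype.ofFinite Ω
  rw [Set.ncard_eq_toFinset_card']
  rw [Finset.card_eq_sum_card_fiberwise (f := cls) (t := T)]
  · refine Finset.sum_congr rfl fun i hi => ?_
    rw [← hsz i, Set.ncard_eq_toFinset_card']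
    refine congrArg Finset.card ?_
    ext b
    simp only [Finset.mem_filter, Set.mem_toFinset, Set.mem_preimage, Finset.mem_coe,
      Set.mem_singleton_iff]
    exact ⟨fun h => h.2, fun h => ⟨h ▸ hi, h⟩⟩
  · intro b hb
    simpa using hb

theorem simple_of_action [Finite Q] [Finite Ω] [IsPretransitive Q Ω] (a : Ω)
    (hQ : Nat.card Q = 898128000) (hΩ : Nat.card Ω = 7128)
    (hM : ∀ J : Subgroup (stabilizer Q a), J.Normal → J = ⊥ ∨ J = ⊤)
    (cls : Ω → Fin 5) (hcls : cls a = 0)
    (hsz : ∀ i, (cls ⁻¹' {i}).ncard = sz i)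
    (htr : ∀ b c : Ω, cls b = cls c → ∃ g ∈ stabilizer Q a, g • b = c) :
    IsSimpleGroup Q := by
  classical
  haveI := Fintype.ofFinite Ω
  haveI : Nontrivial Q := Finite.one_lt_card_iff_nontrivial.1 (by omega)
  have hcard_pre : ∀ B : Set Ω, (∀ g ∈ stabilizer Q a, ∀ b ∈ B, g • b ∈ B) →
      ∃ T : Finset (Fin 5), B = cls ⁻¹' (T : Set (Fin 5)) ∧ B.ncard = ∑ i ∈ T, sz i ∧
        (a ∈ B ↔ (0 : Fin 5) ∈ T) := by
    intro B hB
    refine ⟨(cls '' B).toFinset, ?_, ?_, ?_⟩
    · simpa using invariant_eq_preimage a cls htr B hB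
    · rw [← ncard_preimage_classes cls hsz, Set.coe_toFinset,
        ← invariant_eq_preimage a cls htr B hB]
    · conv_lhs => rw [invariant_eq_preimage a cls htr B hB]
      simp [Set.mem_toFinset, hcls]
  have hfib0 : cls ⁻¹' {0} = {a} := by
    obtain ⟨b, hb⟩ := Set.ncard_eq_one.1 (show (cls ⁻¹' {0}).ncard = 1 from hsz 0)
    rw [hb]
    have : a ∈ cls ⁻¹' {0} := hcls
    rw [hb] at this
    rw [Set.mem_singleton_iff.1 this]
  -- primitivity
  haveI hprim : IsPreprimitive Q Ω := by
    refine IsPreprimitive.of_isTrivialBlock_base a fun {B} ha hB => ?_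
    have hinv : ∀ g ∈ stabilizer Q a, ∀ b ∈ B, g • b ∈ B := by
      intro g hg b hb
      have h1 : g • B = B := hB.smul_eq_of_nonempty ⟨a, by
        have h2 : g • a ∈ g • B := Set.smul_mem_smul_set ha
        rw [mem_stabilizer_iff.1 hg] at h2
        exact ⟨h2, ha⟩⟩
      rw [← h1]
      exact Set.smul_mem_smul_set hb
    obtain ⟨T, hT, hn, h0⟩ := hcard_pre B hinv
    have hdvd := hB.ncard_dvd_card ⟨a, ha⟩
    rw [hΩ, hn] at hdvd
    rcases sz_dvd_imp T (h0.1 ha) hdvd with h | h
    · left
      rw [hT, h, Finset.coe_singleton, hfib0]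
      exact Set.subsingleton_singleton
    · right
      rw [hT, h, Finset.coe_univ, Set.preimage_univ]
  refine ⟨fun K hK => ?_⟩
  haveI := hK
  -- the trace of K on the stabiliser
  have hKM := hM (K.subgroupOf (stabilizer Q a)) inferInstance
  by_cases hfix : ∀ k ∈ K, k • a = a
  · -- K lies in the stabiliser
    have hle : K ≤ stabilizer Q a := fun k hk => mem_stabilizer_iff.2 (hfix k hk)
    rcases hKM with h | h
    · left
      rw [Subgroup.subgroupOf_eq_bot, disjoint_iff, inf_eq_left.2 hle] at h
      exact h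
    · exfalso
      have hMK : stabilizer Q a ≤ K := Subgroup.subgroupOf_eq_top.1 h
      have : stabilizer Q a = K := le_antisymm hMK hle
      -- the stabiliser fixes everything, contradicting a class of size 252
      have hall : ∀ g ∈ stabilizer Q a, ∀ b : Ω, g • b = b := by
        intro g hg b
        obtain ⟨q, rfl⟩ := exists_smul_eq Q a b
        have h1 : q⁻¹ * g * q ∈ K := by simpa using hK.conj_mem g (hMK hg) q⁻¹
        have h2 := hfix _ h1
        rw [mul_smul, mul_smul, inv_smul_eq_iff] at h2
        exact h2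
      have h1 : (cls ⁻¹' {1}).ncard ≤ 1 := by
        rw [Set.ncard_le_one]
        intro b hb c hc
        obtain ⟨g, hg, hgbc⟩ := htr b c (hb.trans hc.symm)
        rw [hall g hg b] at hgbc
        exact hgbc
      rw [hsz 1] at h1
      simp [sz] at h1
  · -- K is transitive
    right
    haveI : IsPretransitive K Ω := by
      refine IsQuasiPreprimitive.isPretransitive_of_normal (G := Q) ?_
      intro hu
      refine hfix fun k hk => ?_
      have : a ∈ fixedPoints K Ω := hu ▸ Set.mem_univ a
      exact this ⟨k, hk⟩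
    have hKtr : ∀ b : Ω, ∃ k ∈ K, k • a = b := fun b => by
      obtain ⟨⟨k, hk⟩, hkb⟩ := exists_smul_eq K a b
      exact ⟨k, hk, hkb⟩
    rcases hKM with h | h
    · exfalso
      rw [Subgroup.subgroupOf_eq_bot, disjoint_iff] at h
      have hstabK : stabilizer K a = ⊥ := by
        rw [eq_bot_iff]
        rintro ⟨k, hk⟩ hka
        have : k ∈ K ⊓ stabilizer Q a := ⟨hk, hka⟩
        rw [h, Subgroup.mem_bot] at this
        simp [Subgroup.mem_bot, this]
      have hKcard : Nat.card K = 7128 := by
        have h1 := MulAction.index_stabilizer_of_transitive K a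
        rw [hstabK, Subgroup.index_bot, hΩ] at h1
        exact h1
      -- elements of order 11 in K
      set E : Set Ω := (fun k : K => k • a) '' {k : K | orderOf k = 11} with hE
      have hEinv : ∀ g ∈ stabilizer Q a, ∀ b ∈ E, g • b ∈ E := by
        rintro g hg _ ⟨k, hk, rfl⟩
        refine ⟨⟨g * k * g⁻¹, hK.conj_mem _ k.2 g⟩, ?_, ?_⟩
        · have hk' : orderOf (k : Q) = 11 := by rw [Subgroup.orderOf_coe]; exact hk
          rw [Set.mem_setOf_eq, ← Subgroup.orderOf_coe, ← hk']
          exact (orderOf_injective (MulAut.conj g).toMonoidHom (MulAut.conj g).injective k)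
        · show (g * (k : Q) * g⁻¹) • a = g • ((k : Q) • a)
          rw [mul_smul, mul_smul, inv_smul_eq_iff.2 (mem_stabilizer_iff.1 hg).symm]
      have haE : a ∉ E := by
        rintro ⟨k, hk, hka⟩
        have : k ∈ stabilizer K a := hka
        rw [hstabK, Subgroup.mem_bot] at this
        rw [Set.mem_setOf_eq, this, orderOf_one] at hk
        omega
      haveI : Fact (Nat.Prime 11) := ⟨by norm_num⟩
      have hEne : E.Nonempty := by
        obtain ⟨k, hk⟩ := exists_prime_orderOf_dvd_card' (G := K) 11 (by rw [hKcard]; norm_num)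
        exact ⟨_, k, hk, rfl⟩
      have hsyl : ∀ P : Sylow 11 K, Nat.card P = 11 := by
        intro P
        rw [P.card_eq_multiplicity, hKcard]
        decide +kernel
      have hn : Nat.card (Sylow 11 K) ≤ 12 := by
        obtain ⟨P⟩ := (inferInstance : Nonempty (Sylow 11 K))
        have h1 : Nat.card (Sylow 11 K) ∣ (P : Subgroup K).index := P.card_dvd_index
        have h2 : (P : Subgroup K).index = 648 := by
          have := (P : Subgroup K).card_mul_index
          rw [hsyl P, hKcard] at this
          omega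
        rw [h2] at h1
        have h3 : Nat.card (Sylow 11 K) % 11 = 1 := card_sylow_modEq_one 11 K
        have h4 : Nat.card (Sylow 11 K) ∈ Nat.divisors 648 := Nat.mem_divisors.2 ⟨h1, by norm_num⟩
        have h5 : ∀ d ∈ Nat.divisors 648, d % 11 = 1 → d ≤ 12 := by decide +kernel
        exact h5 _ h4 h3
      have hEcard : E.ncard ≤ 132 := by
        haveI := Fintype.ofFinite (Sylow 11 K)
        have hsub : {k : K | orderOf k = 11} ⊆ ⋃ P : Sylow 11 K, ((P : Subgroup K) : Set K) := by
          intro k hk
          have hp : IsPGroup 11 (Subgroup.zpowers k) :=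
            IsPGroup.of_card (n := 1) (by rw [Nat.card_zpowers, hk, pow_one])
          obtain ⟨P, hP⟩ := hp.exists_le_sylow
          exact Set.mem_iUnion.2 ⟨P, hP (Subgroup.mem_zpowers k)⟩
        calc E.ncard ≤ {k : K | orderOf k = 11}.ncard := Set.ncard_image_le (Set.toFinite _)
          _ ≤ (⋃ P : Sylow 11 K, ((P : Subgroup K) : Set K)).ncard :=
              Set.ncard_le_ncard hsub (Set.toFinite _)
          _ ≤ ∑ P : Sylow 11 K, ((P : Subgroup K) : Set K).ncard := Set.ncard_iUnion_le_of_fintype _
          _ = ∑ _P : Sylow 11 K, 11 := Finset.sum_congr rfl fun P _ => by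
              rw [← Nat.card_coe_set_eq]; exact hsyl P
          _ ≤ 132 := by
              simp only [Finset.sum_const, Finset.card_univ, smul_eq_mul]
              rw [← Nat.card_eq_fintype_card]
              omega
      obtain ⟨T, hT, hn', h0⟩ := hcard_pre E hEinv
      obtain ⟨b, hb⟩ := hEne
      rw [hT] at hb
      have hne : cls b ≠ 0 := fun h0' => haE (h0.2 (by simpa [h0'] using hb))
      have h252 : 252 ≤ ∑ i ∈ T, sz i :=
        le_trans (sz_big _ hne) (Finset.single_le_sum (fun i _ => Nat.zero_le (sz i))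
          (by simpa using hb))
      omega
    · -- K contains the stabiliser and is transitive
      have hMK : stabilizer Q a ≤ K := Subgroup.subgroupOf_eq_top.1 h
      rw [eq_top_iff]
      intro q _
      obtain ⟨k, hk, hkq⟩ := hKtr (q • a)
      have : k⁻¹ * q ∈ K := hMK (by
        rw [mem_stabilizer_iff, mul_smul, inv_smul_eq_iff]; exact hkq.symm)
      simpa using K.mul_mem hk this

/-- normal subgroups of a perfect group with a faithful primitive action with solvable stabiliser -/
theorem normal_eq_bot_or_top {M α : Type*} [Group M] [MulAction M α] [FaithfulSMul M α]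
    [IsPreprimitive M α] (hperf : commutator M = ⊤) (b : α)
    (hsolv : Group.IsSolvable (stabilizer M b)) (J : Subgroup M) (hJ : J.Normal) : J = ⊥ ∨ J = ⊤ := by
  by_cases hu : fixedPoints J α = Set.univ
  · left
    rw [eq_bot_iff]
    intro j hj
    rw [Subgroup.mem_bot]
    refine FaithfulSMul.eq_of_smul_eq_smul (α := α) fun c => ?_
    have : c ∈ fixedPoints J α := hu ▸ Set.mem_univ c
    rw [one_smul]
    exact this ⟨j, hj⟩
  right
  haveI := hJ
  haveI : IsPretransitive J α := IsQuasiPreprimitive.isPretransitive_of_normal (G := M) hu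
  haveI := hsolv
  have hsurj : Function.Surjective
      ((QuotientGroup.mk' J).comp (stabilizer M b).subtype) := by
    intro y
    obtain ⟨m, rfl⟩ := QuotientGroup.mk'_surjective J y
    obtain ⟨⟨j, hj⟩, hjb⟩ := exists_smul_eq J b (m • b)
    refine ⟨⟨j⁻¹ * m, by rw [mem_stabilizer_iff, mul_smul, inv_smul_eq_iff]; exact hjb.symm⟩, ?_⟩
    simp only [MonoidHom.comp_apply, Subgroup.coe_subtype, QuotientGroup.mk'_apply]
    rw [QuotientGroup.eq]
    have := hJ.conj_mem j hj m⁻¹
    simpa [mul_assoc] using this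
  haveI : Group.IsSolvable (M ⧸ J) := Group.isSolvable_of_surjective hsurj
  by_contra hne
  haveI : Nontrivial (M ⧸ J) := QuotientGroup.nontrivial_iff.2 hne
  have hq : commutator (M ⧸ J) = ⊤ := by
    rw [commutator_def, ← MonoidHom.range_eq_top.2 (QuotientGroup.mk'_surjective J),
      MonoidHom.range_eq_map, ← Subgroup.map_commutator, ← commutator_def, hperf]
  exact absurd hq (Group.IsSolvable.commutator_lt_top_of_nontrivial (M ⧸ J)).ne

end

/-- the centre of a central extension of a non-commutative simple group -/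
theorem center_eq_of_simple_quotient {G : Type*} [Group G] (Z : Subgroup G) [Z.Normal]
    (hZ : Z ≤ Subgroup.center G) (hS : IsSimpleGroup (G ⧸ Z))
    (hnc : ∃ x y : G ⧸ Z, x * y ≠ y * x) : Subgroup.center G = Z := by
  refine le_antisymm (fun g hg => ?_) hZ
  have hc : (QuotientGroup.mk' Z g) ∈ Subgroup.center (G ⧸ Z) := by
    rw [Subgroup.mem_center_iff]
    intro q
    obtain ⟨h, rfl⟩ := QuotientGroup.mk'_surjective Z q
    rw [← map_mul, ← map_mul, Subgroup.mem_center_iff.1 hg h]
  rcases hS.eq_bot_or_eq_top_of_normal (Subgroup.center (G ⧸ Z)) inferInstance with h | h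
  · rw [h, Subgroup.mem_bot] at hc
    exact (QuotientGroup.eq_one_iff g).1 hc
  · obtain ⟨x, y, hxy⟩ := hnc
    have hy : y ∈ Subgroup.center (G ⧸ Z) := h ▸ Subgroup.mem_top y
    exact absurd (Subgroup.mem_center_iff.1 hy x) hxy

/-- a group of order 1000 is solvable -/
theorem isSolvable_of_card_1000 {H : Type*} [Group H] [Finite H] (h : Nat.card H = 1000) :
    Group.IsSolvable H := by
  haveI : Fact (Nat.Prime 5) := ⟨by norm_num⟩
  haveI : Fact (Nat.Prime 2) := ⟨by norm_num⟩
  obtain ⟨P⟩ := (inferInstance : Nonempty (Sylow 5 H))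
  have hP : Nat.card P = 125 := by
    rw [P.card_eq_multiplicity, h]
    decide +kernel
  have hidx : (P : Subgroup H).index = 8 := by
    have := (P : Subgroup H).card_mul_index
    rw [h, show Nat.card (P : Subgroup H) = 125 from hP] at this
    omega
  have h1 : Nat.card (Sylow 5 H) ∣ 8 := hidx ▸ P.card_dvd_index
  have h2 : Nat.card (Sylow 5 H) % 5 = 1 := card_sylow_modEq_one 5 H
  have h3 : Nat.card (Sylow 5 H) = 1 := by
    have h4 : Nat.card (Sylow 5 H) ∈ Nat.divisors 8 := Nat.mem_divisors.2 ⟨h1, by norm_num⟩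
    have h5 : ∀ d ∈ Nat.divisors 8, d % 5 = 1 → d = 1 := by decide
    exact h5 _ h4 h2
  haveI : Subsingleton (Sylow 5 H) := (Nat.card_eq_one_iff_unique.1 h3).1
  haveI : (P : Subgroup H).Normal := P.normal_of_subsingleton
  haveI hs1 : Group.IsSolvable (P : Subgroup H) := by
    haveI : Group.IsNilpotent (P : Subgroup H) := P.isPGroup'.isNilpotent
    infer_instance
  have hq : IsPGroup 2 (H ⧸ (P : Subgroup H)) :=
    IsPGroup.of_card (n := 3) (by rw [← Subgroup.index_eq_card, hidx]; norm_num)
  haveI hs2 : Group.IsSolvable (H ⧸ (P : Subgroup H)) := by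
    haveI : Group.IsNilpotent (H ⧸ (P : Subgroup H)) := hq.isNilpotent
    infer_instance
  exact Group.isSolvable_of_ker_le_range (P : Subgroup H).subtype (QuotientGroup.mk' (P : Subgroup H))
    (by rw [QuotientGroup.ker_mk', Subgroup.range_subtype])

end H11.Ly3A
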