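import Cfsg.Agent.H68.Ly.Fast

/-!
The trace of a packed product of 111 × 111 matrices.
-/

set_option autoImplicit false

namespace H11.Ly3A

open H60.PackMat (pk)
open H68.Ly

/-- the sum of the diagonal fields -/
noncomputable def diag (Y : ℕ) : ℕ → ℕ :=
  Nat.rec (motive := fun _ => ℕ) 0 (fun i ih =>
    Nat.add ih (Nat.land (Nat.shiftRight Y (Nat.mul 3584 i)) 65535))

/-- the trace of the product is `r` -/
noncomputable def traceIs (r : ℕ) (w : List (List ℕ)) : Bool :=
  fz cmask fun cm => fz (H60.PackMat.rep (111 * 111) 65535) fun m => fz idN fun i =>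
    runR cm m w i fun Y => Nat.beq (Nat.mod (diag Y 111) 5) r

theorem diag_St (M : Mat) : ∀ n ≤ 111, diag (St M) n = ∑ i ∈ Finset.range n, entry M i i := by
  intro n
  induction n with
  | zero => intro _; rfl
  | succ n ih =>
    intro hn
    rw [Finset.sum_range_succ, ← ih (by omega)]
    show diag (St M) n + ((St M >>> (3584 * n)) &&& 65535) = _
    congr 1
    rw [St, qk_pk 111 (by norm_num), Nat.shiftRight_eq_div_pow,
      show 3584 * n = 32 * (112 * n) by ring,
      H68.Ly.pk_digit (n := 111 * 111) (by omega) fun k => (entry_lt M _ _).trans (by norm_num)]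
    congr 1 <;> omega

theorem traceIs_spec {w : List (List (List ℕ))} (hw : ∀ S ∈ w, tabOK S = true) {r : ℕ}
    (h : traceIs r (w.map packTab) = true) : Matrix.trace (w.map toM).prod = (r : ZMod 5) := by
  have h' : runR cmask (H60.PackMat.rep (111 * 111) 65535) (w.map packTab) idN
      (fun Y => Nat.beq (Nat.mod (diag Y 111) 5) r) = true := by
    simpa [traceIs, fz_eq] using h
  rw [idN_eq, runR_eq w hw, one_mul, Nat.beq_eq, diag_St _ 111 le_rfl] at h'
  rw [← h', show Nat.mod _ 5 = _ % 5 from rfl, ZMod.natCast_mod]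
  rw [Matrix.trace, Nat.cast_sum, Finset.sum_range]
  refine Finset.sum_congr rfl fun j _ => ?_
  simp only [entry_fin, ZMod.natCast_val, Matrix.diag_apply, ZMod.cast_id', id_eq]

end H11.Ly3A
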